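/-
Giraud's theorem: the topology of extremal sieves on a category satisfying Giraud's axioms.
-/
import Groth.Prelude.Def_SGA4a
import Mathlib.CategoryTheory.Sites.Canonical
import Mathlib.CategoryTheory.EffectiveEpi.Comp

set_option autoImplicit false
set_option linter.style.haveILetI false

universe v u

open CategoryTheory Limits Opposite

namespace TopLib

variable {E : Type v} [Category.{u} E]

/-- A sieve is extremal if its arrows factor through no proper subobject. -/
def Extremal {X : E} (S : Sieve X) : Prop :=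
  ∀ ⦃Z : E⦄ (m : Z ⟶ X), Mono m → (∀ ⦃Y : E⦄ (f : Y ⟶ X), S f → ∃ h, h ≫ m = f) → IsIso m

/-- A mono through which an effective epimorphism factors is an isomorphism. -/
lemma isIso_of_effectiveEpi_fac {A B Z : E} {π : A ⟶ B} [EffectiveEpi π] {h : A ⟶ Z} {m : Z ⟶ B}
    [Mono m] (w : h ≫ m = π) : IsIso m := by
  have hh : ∀ {T : E} (g₁ g₂ : T ⟶ A), g₁ ≫ π = g₂ ≫ π → g₁ ≫ h = g₂ ≫ h := fun g₁ g₂ e =>
    (cancel_mono m).1 (by simpa [w] using e)
  have hm : EffectiveEpi.desc π h hh ≫ m = 𝟙 B := by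
    rw [← cancel_epi π, ← Category.assoc, EffectiveEpi.fac, w, Category.comp_id]
  exact ⟨EffectiveEpi.desc π h hh, (cancel_mono m).1 (by simp [hm]), hm⟩

lemma extremal_of_isColimit {ι : Type*} {A : ι → E} {c : Cofan A} (hc : IsColimit c) :
    Extremal (Sieve.ofArrows A c.inj) := by
  intro Z m hm hf
  choose h hh using fun i => hf (c.inj i) (Sieve.ofArrows_mk A c.inj i)
  have hs : Cofan.IsColimit.desc hc h ≫ m = 𝟙 c.pt :=
    Cofan.IsColimit.hom_ext hc _ _ fun i => by simp [hh]
  exact ⟨Cofan.IsColimit.desc hc h, (cancel_mono m).1 (by simp [hs]), hs⟩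

section

variable [HasFiniteLimits E]

variable (E) in
/-- Giraud's axioms on coproducts and equivalence relations. -/
structure Axioms : Prop where
  coprod : SGA4.HasDisjointUniversalCoproducts.{v, u} E
  equiv : ∀ (R A : E) (p₁ p₂ : R ⟶ A), SGA4.IsEquivRel p₁ p₂ →
    SGA4.IsEffectiveUniversalEquivRel p₁ p₂

namespace Axioms

variable (ax : Axioms E)

include ax

lemma hasCoproducts : HasCoproducts.{u} E := fun ι =>
  { has_colimit := fun F => by
      obtain ⟨c, hc, -⟩ := ax.coprod ι fun i => F.obj ⟨i⟩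
      haveI : HasColimit (Discrete.functor (F.obj ∘ Discrete.mk)) := HasColimit.mk ⟨c, hc⟩
      exact hasColimit_of_iso Discrete.natIsoFunctor }

lemma disjoint {ι : Type u} (A : ι → E) : CoproductDisjoint A :=
  let ⟨_, _, h, _⟩ := ax.coprod ι A; h

lemma universal {ι : Type u} {A : ι → E} {c : Cofan A} (hc : IsColimit c) :
    IsUniversalColimit c := by
  obtain ⟨d, hd, -, hu⟩ := ax.coprod ι A
  exact hu.of_iso (hd.uniqueUpToIso hc)

/-- The pullbacks of the coprojections form a coproduct. -/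
lemma isColimit_legs {ι : Type u} {A : ι → E} {c : Cofan A} (hc : IsColimit c) {T : E}
    (h : T ⟶ c.pt) :
    Nonempty (IsColimit (Cofan.mk T fun i => (pullback.fst h (c.inj i)))) := by
  refine ax.universal hc _ (Discrete.natTrans fun i => pullback.snd h (c.inj i.as)) h ?_
    (.of_discrete _) fun i => ?_
  · ext ⟨i⟩
    exact pullback.condition.symm
  · exact IsPullback.of_hasPullback h (c.inj i.as)

/-- Image factorisation. -/
lemma exists_image {A X : E} (π : A ⟶ X) :
    ∃ (B : E) (q : A ⟶ B) (m : B ⟶ X), Mono m ∧ q ≫ m = π ∧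
      ∀ (B' : E) (g : B' ⟶ B), EffectiveEpi (pullback.snd q g) := by
  have hrel : SGA4.IsEquivRel (pullback.fst π π) (pullback.snd π π) := fun T => by
    refine ⟨fun f g h => pullback.hom_ext (congrArg Prod.fst h) (congrArg Prod.snd h),
      fun a => ⟨pullback.lift a a rfl, pullback.lift_fst _ _ _, pullback.lift_snd _ _ _⟩, ?_, ?_⟩
    · rintro a b ⟨f, rfl, rfl⟩
      exact ⟨pullback.lift (f ≫ pullback.snd π π) (f ≫ pullback.fst π π)
        (by simp [pullback.condition]), pullback.lift_fst _ _ _, pullback.lift_snd _ _ _⟩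
    · rintro a b c ⟨f, rfl, rfl⟩ ⟨g, hg, rfl⟩
      refine ⟨pullback.lift (f ≫ pullback.fst π π) (g ≫ pullback.snd π π) ?_, pullback.lift_fst _ _ _, pullback.lift_snd _ _ _⟩
      rw [Category.assoc, Category.assoc, pullback.condition, ← Category.assoc, ← hg,
        Category.assoc, pullback.condition]
  obtain ⟨B, q, hpb, hpo, hq⟩ := ax.equiv _ _ _ _ hrel
  let m : B ⟶ X := hpo.desc π π pullback.condition
  have hm : q ≫ m = π := hpo.inl_desc π π pullback.condition
  refine ⟨B, q, m, ⟨fun {T} a b hab => ?_⟩, hm, hq⟩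
  haveI := hq T a
  haveI := hq (pullback q a) (pullback.snd q a ≫ b)
  let u₁ := pullback.snd q (pullback.snd q a ≫ b) ≫ pullback.fst q a
  let u₂ := pullback.fst q (pullback.snd q a ≫ b)
  have h₁ : u₁ ≫ q = pullback.snd q (pullback.snd q a ≫ b) ≫ pullback.snd q a ≫ a := by
    simp [u₁, pullback.condition]
  have h₂ : u₂ ≫ q = pullback.snd q (pullback.snd q a ≫ b) ≫ pullback.snd q a ≫ b :=
    pullback.condition
  have hu : u₁ ≫ π = u₂ ≫ π := by
    rw [← hm, reassoc_of% h₁, reassoc_of% h₂, hab]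
  have : u₁ ≫ q = u₂ ≫ q := by
    have := congrArg (pullback.lift u₁ u₂ hu ≫ ·) hpb.w
    rwa [pullback.lift_fst_assoc, pullback.lift_snd_assoc] at this
  rw [← cancel_epi (pullback.snd q a), ← cancel_epi (pullback.snd q (pullback.snd q a ≫ b)),
    ← h₁, ← h₂, this]

/-- A small extremal family gives a universally effective epimorphism from the coproduct. -/
lemma effectiveEpi_of_extremal {ι : Type u} {A : ι → E} {X : E} (f : ∀ i, A i ⟶ X)
    (hf : Extremal (Sieve.ofArrows A f)) {c : Cofan A} (hc : IsColimit c) {P T : E} {fst : P ⟶ c.pt}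
    {snd : P ⟶ T} {g : T ⟶ X} (h : IsPullback fst snd (Cofan.IsColimit.desc hc f) g) :
    EffectiveEpi snd := by
  obtain ⟨B, q, m, hm, w, hq⟩ := ax.exists_image (Cofan.IsColimit.desc hc f)
  haveI : IsIso m := hf m hm fun Y a ha => by
    rw [Sieve.ofArrows, Sieve.generate_apply] at ha
    obtain ⟨W, b, _, ⟨i⟩, rfl⟩ := ha
    exact ⟨b ≫ c.inj i ≫ q, by simp [w]⟩
  have h' : IsPullback fst snd q (g ≫ inv m) := h.of_iso (Iso.refl _) (Iso.refl _) (Iso.refl _)
    (asIso m).symm (by simp) (by simp) (by simp [← w]) (by simp)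
  haveI := hq T (g ≫ inv m)
  rw [← h'.isoPullback_hom_snd]
  infer_instance

end Axioms

/-- A small detecting family. -/
structure Gen (E : Type v) [Category.{u} E] where
  /-- index type -/
  K : Type u
  /-- the objects -/
  obj : K → E
  det : ∀ {Z X : E} (m : Z ⟶ X), Mono m → (∀ k (g : obj k ⟶ X), ∃ h, h ≫ m = g) → IsIso m

omit [HasFiniteLimits E] in
lemma nonempty_gen (hd : ∃ P : ObjectProperty E, ObjectProperty.Small.{u} P ∧ P.IsDetecting) :
    Nonempty (Gen E) := by
  obtain ⟨P, hP, hdet⟩ := hd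
  haveI : Small.{u} (Subtype P) := hP
  refine ⟨⟨Shrink.{u} (Subtype P), fun k => ((equivShrink _).symm k).1, fun {Z X} m hm h =>
    hdet m fun G hG g => ?_⟩⟩
  obtain ⟨k, hk⟩ : ∃ k, (equivShrink (Subtype P)).symm k = ⟨G, hG⟩ :=
    ⟨equivShrink _ ⟨G, hG⟩, Equiv.symm_apply_apply _ _⟩
  have h' := h k
  rw [hk] at h'
  obtain ⟨h₀, hh⟩ := h' g
  exact ⟨h₀, hh, fun y hy => (cancel_mono m).1 (hy.trans hh.symm)⟩

namespace Gen

variable (gen : Gen E)

include gen

omit [HasFiniteLimits E] in
/-- A sieve containing all maps from generators is extremal. -/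
lemma extremal_of_gen {X : E} (S : Sieve X) (h : ∀ k (g : gen.obj k ⟶ X), S g) : Extremal S :=
  fun _ m hm hf => gen.det m hm fun k g => hf g (h k g)

/-- The small family of arrows of a sieve from generators. -/
abbrev Idx {X : E} (S : Sieve X) : Type u := Σ k, {g : gen.obj k ⟶ X // S g}

lemma extremal_small {X : E} {S : Sieve X} (hS : Extremal S) :
    Extremal (Sieve.ofArrows (fun i : gen.Idx S => gen.obj i.1) fun i => i.2.1) := by
  intro Z m hm hf
  refine hS m hm fun Y f hfS => ?_
  haveI : IsIso (pullback.snd m f) := gen.det _ inferInstance fun k g => by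
    obtain ⟨h, hh⟩ := hf (g ≫ f)
      (Sieve.ofArrows_mk (fun i : gen.Idx S => gen.obj i.1) (fun i => i.2.1)
        ⟨k, g ≫ f, S.downward_closed hfS g⟩)
    exact ⟨pullback.lift h g hh, pullback.lift_snd _ _ _⟩
  exact ⟨inv (pullback.snd m f) ≫ pullback.fst m f, by simp [pullback.condition]⟩

variable (ax : Axioms E)

include ax

lemma extremal_pullback {X T : E} {S : Sieve X} (hS : Extremal S) (g : T ⟶ X) :
    Extremal (S.pullback g) := by
  intro Z m hm hf
  haveI := ax.hasCoproducts
  let c := colimit.cocone (Discrete.functor fun i : gen.Idx S => gen.obj i.1)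
  let hc : IsColimit c := colimit.isColimit _
  let π : c.pt ⟶ X := Cofan.IsColimit.desc hc fun i => i.2.1
  haveI : EffectiveEpi (pullback.snd π g) :=
    ax.effectiveEpi_of_extremal _ (gen.extremal_small hS) hc (IsPullback.of_hasPullback π g)
  obtain ⟨hl⟩ := ax.isColimit_legs (c := c) hc (pullback.fst π g)
  have hi : ∀ i, ∃ h, h ≫ m = pullback.fst (pullback.fst π g) (Cofan.inj c i) ≫ pullback.snd π g :=
    fun i => hf _ (by
      show S ((_ ≫ pullback.snd π g) ≫ g)
      rw [Category.assoc, ← pullback.condition, pullback.condition_assoc]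
      exact S.downward_closed (by simpa [π] using i.2.2) _)
  choose h hh using hi
  refine isIso_of_effectiveEpi_fac (π := pullback.snd π g) (h := Cofan.IsColimit.desc hl h)
    (Cofan.IsColimit.hom_ext hl _ _ fun i => ?_)
  rw [Cofan.IsColimit.fac_assoc, hh]
  rfl

/-- The topology of extremal sieves. -/
def topology : GrothendieckTopology E where
  sieves X := {S | Extremal S}
  top_mem' X := fun Z m hm hf => by
    obtain ⟨h, hh⟩ := hf (𝟙 X) trivial
    exact ⟨h, (cancel_mono m).1 (by simp [hh]), hh⟩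
  pullback_stable' X Y S f hS := gen.extremal_pullback ax hS f
  transitive' X S hS R hR := by
    intro Z m hm hf
    refine hS m hm fun Y f hfS => ?_
    haveI : IsIso (pullback.snd m f) := hR hfS _ inferInstance fun W a ha => by
      obtain ⟨h, hh⟩ := hf (a ≫ f) ha
      exact ⟨pullback.lift h a hh, pullback.lift_snd _ _ _⟩
    exact ⟨inv (pullback.snd m f) ≫ pullback.fst m f, by simp [pullback.condition]⟩

lemma mem_topology {X : E} {S : Sieve X} : S ∈ gen.topology ax X ↔ Extremal S := Iff.rfl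

/-- Two maps agreeing on a covering sieve are equal. -/
lemma hom_ext_cover {T W : E} {S : Sieve T} (hS : S ∈ gen.topology ax T) {a b : T ⟶ W}
    (h : ∀ ⦃Y : E⦄ (f : Y ⟶ T), S f → f ≫ a = f ≫ b) : a = b := by
  haveI : IsIso (equalizer.ι a b) := hS _ inferInstance fun Y f hf =>
    ⟨equalizer.lift f (h f hf), equalizer.lift_ι _ _⟩
  exact (cancel_epi (equalizer.ι a b)).1 (equalizer.condition a b)

lemma subcanonical : (gen.topology ax).Subcanonical := by
  refine GrothendieckTopology.Subcanonical.of_isSheaf_yoneda_obj _ fun W X S hS x hx => ?_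
  have hx' := Presieve.compatible_iff_sieveCompatible x |>.1 hx
  haveI := ax.hasCoproducts
  let c := colimit.cocone (Discrete.functor fun i : gen.Idx S => gen.obj i.1)
  let hc : IsColimit c := colimit.isColimit _
  let π : c.pt ⟶ X := Cofan.IsColimit.desc hc fun i => i.2.1
  haveI : EffectiveEpi π := ax.effectiveEpi_of_extremal _ (gen.extremal_small hS) hc
    (IsPullback.id_horiz π)
  let e : c.pt ⟶ W := Cofan.IsColimit.desc hc fun i => x i.2.1 i.2.2
  have he : ∀ {T : E} (g₁ g₂ : T ⟶ c.pt), g₁ ≫ π = g₂ ≫ π → g₁ ≫ e = g₂ ≫ e := by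
    intro T g₁ g₂ h
    have hcov : Sieve.ofArrows _ (Cofan.inj c) ∈ gen.topology ax c.pt := extremal_of_isColimit hc
    refine gen.hom_ext_cover ax ((gen.topology ax).intersection_covering
      ((gen.topology ax).pullback_stable g₁ hcov) ((gen.topology ax).pullback_stable g₂ hcov))
      fun Y f hf => ?_
    obtain ⟨⟨_, a, _, ⟨i⟩, ha⟩, ⟨_, b, _, ⟨j⟩, hb⟩⟩ := hf
    rw [← reassoc_of% ha, ← reassoc_of% hb]
    have hab : a ≫ i.2.1 = b ≫ j.2.1 := by
      have := congrArg (f ≫ ·) h
      simp only [← reassoc_of% ha, ← reassoc_of% hb] at this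
      simpa [π] using this
    simpa [e] using hx a b i.2.2 j.2.2 hab
  let t := EffectiveEpi.desc π e he
  refine ⟨t, fun Y f hf => ?_, fun t' ht' => ?_⟩
  · refine gen.hom_ext_cover ax ((gen.topology ax).pullback_stable f (gen.extremal_small hS))
      fun Z a ha => ?_
    obtain ⟨_, b, _, ⟨i⟩, hb⟩ := ha
    have h₁ : i.2.1 ≫ t = x i.2.1 i.2.2 := by
      exact (((Cofan.IsColimit.fac hc (fun i => i.2.1) i).symm =≫ t).trans (Category.assoc _ _ _)).trans
        ((Cofan.inj c i ≫= EffectiveEpi.fac π e he).trans (Cofan.IsColimit.fac hc _ i))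
    show a ≫ f ≫ t = a ≫ x f hf
    rw [← reassoc_of% hb, h₁]
    exact hx b a i.2.2 hf hb
  · rw [← cancel_epi π, EffectiveEpi.fac]
    refine Cofan.IsColimit.hom_ext hc _ _ fun i => ?_
    simpa [π, e] using ht' i.2.1 i.2.2

end Gen

end

end TopLib
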