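/-
Giraud's axioms for categories of sheaves of sets on a small site.
-/
import Groth.Agent.TopLib.GiraudTop
import Mathlib.CategoryTheory.Sites.LeftExact
import Mathlib.CategoryTheory.Sites.RegularEpi
import Mathlib.CategoryTheory.Sites.EpiMono
import Mathlib.CategoryTheory.Sites.LocallySurjective
import Mathlib.CategoryTheory.Limits.Types.Pullbacks
import Mathlib.CategoryTheory.Limits.Types.Coproducts
import Mathlib.CategoryTheory.Limits.FunctorCategory.Basic

set_option autoImplicit false
set_option linter.style.haveILetI false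
set_option linter.deprecated false

universe v u

open CategoryTheory Limits Opposite

namespace TopLib

/-- Coproducts of types, by unique representatives. -/
lemma exists_unique_of_isColimit {ι : Type u} {F : Discrete ι ⥤ Type u} {c : Cocone F}
    (hc : IsColimit c) (y : c.pt) : ∃! p : Σ j, F.obj j, c.ι.app p.1 p.2 = y := by
  let s : Cocone F :=
    { pt := Σ j, F.obj j
      ι := Discrete.natTrans fun j => ↾fun x => ⟨j, x⟩ }
  obtain ⟨j, x, rfl⟩ := Types.jointly_surjective_of_isColimit hc y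
  refine ⟨⟨j, x⟩, rfl, fun p hp => ?_⟩
  have h₁ := ConcreteCategory.congr_hom (hc.fac s p.1) p.2
  have h₂ := ConcreteCategory.congr_hom (hc.fac s j) x
  simp only [ConcreteCategory.comp_apply, hp] at h₁ h₂
  exact h₁.symm.trans h₂

lemma isColimit_of_exists_unique {ι : Type u} {F : Discrete ι ⥤ Type u} (c : Cocone F)
    (h : ∀ y : c.pt, ∃! p : Σ j, F.obj j, c.ι.app p.1 p.2 = y) : Nonempty (IsColimit c) := by
  choose p hp hu using h
  exact ⟨
    { desc := fun s => ↾fun y => s.ι.app (p y).1 (p y).2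
      fac := fun s j => by
        ext x
        show s.ι.app (p (c.ι.app j x)).1 (p (c.ι.app j x)).2 = s.ι.app j x
        rw [← hu (c.ι.app j x) ⟨j, x⟩ rfl]
      uniq := fun s m hm => by
        ext y
        show m y = s.ι.app (p y).1 (p y).2
        rw [← ConcreteCategory.congr_hom (hm (p y).1) (p y).2]
        exact congrArg m (hp y).symm }⟩

lemma types_isUniversal {ι : Type u} {F : Discrete ι ⥤ Type u} {c : Cocone F} (hc : IsColimit c) :
    IsUniversalColimit c := by
  intro F' c' α f _ _ hp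
  refine isColimit_of_exists_unique c' fun y => ?_
  obtain ⟨⟨j, x⟩, hx, hu⟩ := exists_unique_of_isColimit hc (f y)
  obtain ⟨z, hz₁, hz₂⟩ := Types.exists_of_isPullback (hp j) y x hx.symm
  refine ⟨⟨j, z⟩, hz₁, fun ⟨j', z'⟩ h => ?_⟩
  have h' : c.ι.app j' (α.app j' z') = f y := by
    rw [← h]; exact (ConcreteCategory.congr_hom (hp j').w z').symm
  obtain ⟨rfl, e⟩ := Sigma.mk.inj_iff.1 (hu ⟨j', α.app j' z'⟩ h')
  rw [Types.ext_of_isPullback (hp j') (x₁ := z') (y₁ := z) (h.trans hz₁.symm)
    ((eq_of_heq e).trans hz₂.symm)]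

variable {D : Type u} [SmallCategory D]

lemma presheaf_isUniversal {ι : Type u} {F : Discrete ι ⥤ (Dᵒᵖ ⥤ Type u)} {c : Cocone F}
    (hc : IsColimit c) : IsUniversalColimit c := by
  intro F' c' α f h _ hp
  refine ⟨evaluationJointlyReflectsColimits _ fun X => (types_isUniversal
    (isColimitOfPreserves ((evaluation _ _).obj X) hc) _ (Functor.whiskerRight α _) (f.app X) ?_
    (.of_discrete _) fun j => (hp j).map ((evaluation _ _).obj X)).some⟩
  ext j : 2
  exact NatTrans.congr_app (NatTrans.congr_app h j) X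

lemma presheaf_disjoint {ι : Type u} {P : ι → Dᵒᵖ ⥤ Type u} {c : Cofan P} (hc : IsColimit c) :
    (∀ i, Mono (c.inj i)) ∧ ∀ {i j : ι}, i ≠ j → ∀ X (a : (P i).obj X) (b : (P j).obj X),
      (c.inj i).app X a ≠ (c.inj j).app X b := by
  have key : ∀ {i j : ι} (X : Dᵒᵖ) (a : (P i).obj X) (b : (P j).obj X),
      (c.inj i).app X a = (c.inj j).app X b →
        (⟨i, a⟩ : Σ k, (P k).obj X) = ⟨j, b⟩ := fun {i j} X a b h => by
    obtain ⟨p, -, hu⟩ := exists_unique_of_isColimit
      (isColimitOfPreserves ((evaluation _ _).obj X) hc) ((c.inj j).app X b)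
    have h₁ := hu ⟨⟨i⟩, a⟩ h
    have h₂ := hu ⟨⟨j⟩, b⟩ rfl
    exact congrArg (fun q : Σ k : Discrete ι, (P k.as).obj X => (⟨q.1.as, q.2⟩ : Σ k, (P k).obj X))
      (h₁.trans h₂.symm)
  refine ⟨fun i => ?_, fun hij X a b h => hij (congrArg Sigma.fst (key X a b h))⟩
  haveI : ∀ X, Mono ((c.inj i).app X) := fun X =>
    (mono_iff_injective _).2 fun a b h => eq_of_heq (Sigma.mk.inj_iff.1 (key X a b h)).2
  exact NatTrans.mono_of_mono_app _

variable (J : GrothendieckTopology D)

lemma sheaf_coproducts :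
    SGA4.HasDisjointUniversalCoproducts.{u + 1, u} (Sheaf J (Type u)) := by
  intro ι X
  let adj := sheafificationAdjunction J (Type u)
  let P : ι → Dᵒᵖ ⥤ Type u := fun i => (sheafToPresheaf J (Type u)).obj (X i)
  let F : Discrete ι ⥤ Sheaf J (Type u) := Discrete.functor X
  let c₀ := colimit.cocone (F ⋙ sheafToPresheaf J (Type u))
  let hc₀ : IsColimit c₀ := colimit.isColimit _
  let L := presheafToSheaf J (Type u)
  let e : F ≅ (F ⋙ sheafToPresheaf J (Type u)) ⋙ L :=
    F.rightUnitor.symm ≪≫ Functor.isoWhiskerLeft F (asIso adj.counit).symm ≪≫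
      (Functor.associator _ _ _).symm
  haveI : L.IsLeftAdjoint := ⟨_, ⟨adj⟩⟩
  let c : Cofan X := (Cocone.precompose e.hom).obj (L.mapCocone c₀)
  have hc : IsColimit c := (IsColimit.precomposeHomEquiv e _).symm (isColimitOfPreserves L hc₀)
  have hu : IsUniversalColimit c :=
    ((presheaf_isUniversal hc₀).map_reflective adj).precompose_isIso e.hom
  -- disjointness
  let d : Cofan P := Cofan.mk c₀.pt fun i => c₀.ι.app ⟨i⟩
  have hd : IsColimit d := (IsColimit.precomposeHomEquiv
    (Discrete.natIso fun i => Iso.refl _ : Discrete.functor P ≅ F ⋙ sheafToPresheaf J (Type u))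
      c₀).symm hc₀ |>.ofIsoColimit (Cocone.ext (Iso.refl _) (fun i => by
        simp [d]))
  obtain ⟨hmono, hne⟩ := presheaf_disjoint hd
  have hinj : ∀ i, c.inj i = e.hom.app ⟨i⟩ ≫ L.map (d.inj i) := fun i => rfl
  haveI : ∀ i, Mono (c.inj i) := fun i => by
    rw [hinj]
    haveI := hmono i
    infer_instance
  refine ⟨c, hc, CoproductDisjoint.of_cofan hc
    (fun {i j} _ => pullback.cone (c.inj i) (c.inj j)) (fun _ => pullback.isLimit _ _) (fun {i j} hij => ?_), hu⟩
  -- the intersection is initial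
  let E₀ : Dᵒᵖ ⥤ Type u := pullback (d.inj i) (d.inj j)
  have hE : IsInitial E₀ := by
    have hemp : ∀ Y, IsEmpty (E₀.obj Y) := fun Y => ⟨fun z => hne hij Y
      ((pullback.fst (d.inj i) (d.inj j)).app Y z) ((pullback.snd (d.inj i) (d.inj j)).app Y z)
      (ConcreteCategory.congr_hom (NatTrans.congr_app
        (pullback.condition (f := d.inj i) (g := d.inj j)) Y) z)⟩
    exact IsInitial.ofUniqueHom (fun T =>
      { app := fun Y => ↾fun z => (hemp Y).elim z
        naturality := fun Y Z g => by ext z; exact (hemp Y).elim z })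
      (fun T m => by ext Y z; exact (hemp Y).elim z)
  refine (hE.isInitialObj L _).ofIso ?_
  refine (PreservesPullback.iso L (d.inj i) (d.inj j)) ≪≫ ?_
  exact (asIso (pullback.map (c.inj i) (c.inj j) (L.map (d.inj i)) (L.map (d.inj j))
    (e.hom.app ⟨i⟩) (e.hom.app ⟨j⟩) (𝟙 _) (by rw [Category.comp_id]; rfl)
    (by rw [Category.comp_id]; rfl))).symm

/-- Pullbacks of epimorphisms of sheaves of sets are effective epimorphisms. -/
lemma effectiveEpi_pullback_snd {A B B' : Sheaf J (Type u)} (π : A ⟶ B) [Epi π] (g : B' ⟶ B) :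
    EffectiveEpi (pullback.snd π g) := by
  haveI hπ : Sheaf.IsLocallySurjective π := (Sheaf.isLocallySurjective_iff_epi π).2 ‹_›
  haveI : Sheaf.IsLocallySurjective (pullback.snd π g) := by
    refine ⟨fun {X} s => J.superset_covering ?_
      (Presheaf.imageSieve_mem J π.hom (g.hom.app _ s))⟩
    rintro Y f ⟨a, ha⟩
    have hpb := ((IsPullback.of_hasPullback π g).map (sheafToPresheaf J (Type u))).map
      ((evaluation Dᵒᵖ (Type u)).obj (op Y))
    obtain ⟨z, -, hz⟩ := Types.exists_of_isPullback hpb a (B'.obj.map f.op s)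
      (ha.trans (ConcreteCategory.congr_hom (g.hom.naturality f.op) s).symm)
    exact ⟨z, hz⟩
  haveI : Epi (pullback.snd π g) := (Sheaf.isLocallySurjective_iff_epi _).1 ‹_›
  have := IsRegularEpiCategory.regularEpiOfEpi (pullback.snd π g)
  infer_instance

section quot

variable {R A : Sheaf J (Type u)} {p₁ p₂ : R ⟶ A} (h : SGA4.IsEquivRel p₁ p₂)

include h

lemma sections_rel (X : D) :
    (∀ r r' : R.obj.obj (op X), p₁.hom.app _ r = p₁.hom.app _ r' →
      p₂.hom.app _ r = p₂.hom.app _ r' → r = r') ∧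
    Equivalence fun a b : A.obj.obj (op X) => ∃ r, p₁.hom.app _ r = a ∧ p₂.hom.app _ r = b := by
  let ev : ∀ Y : Sheaf J (Type u),
      ((presheafToSheaf J (Type u)).obj (yoneda.obj X) ⟶ Y) ≃ Y.obj.obj (op X) := fun Y =>
    ((sheafificationAdjunction J (Type u)).homEquiv _ _).trans yonedaEquiv
  have hev : ∀ {Y Z : Sheaf J (Type u)} (f : (presheafToSheaf J (Type u)).obj (yoneda.obj X) ⟶ Y)
      (k : Y ⟶ Z), ev Z (f ≫ k) = k.hom.app _ (ev Y f) := fun f k => by
    simp only [ev, Equiv.trans_apply, Adjunction.homEquiv_naturality_right]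
    exact yonedaEquiv_comp _ _
  obtain ⟨hinj, heq⟩ := h ((presheafToSheaf J (Type u)).obj (yoneda.obj X))
  have hiff : ∀ a b : A.obj.obj (op X), (∃ r, p₁.hom.app _ r = a ∧ p₂.hom.app _ r = b) ↔
      ∃ f, f ≫ p₁ = (ev A).symm a ∧ f ≫ p₂ = (ev A).symm b := fun a b => by
    constructor
    · rintro ⟨r, rfl, rfl⟩
      exact ⟨(ev R).symm r, (ev A).injective (by simp [hev]), (ev A).injective (by simp [hev])⟩
    · rintro ⟨f, h₁, h₂⟩
      exact ⟨ev R f, by rw [← hev, h₁, Equiv.apply_symm_apply],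
        by rw [← hev, h₂, Equiv.apply_symm_apply]⟩
  refine ⟨fun r r' h₁ h₂ => ?_, fun a => (hiff a a).2 (heq.refl _),
    fun hab => (hiff _ _).2 (heq.symm ((hiff _ _).1 hab)),
    fun hab hbc => (hiff _ _).2 (heq.trans ((hiff _ _).1 hab) ((hiff _ _).1 hbc))⟩
  exact (ev R).symm.injective (hinj (Prod.ext ((ev A).injective (by simp [hev, h₁]))
    ((ev A).injective (by simp [hev, h₂]))))

/-- The setoid on sections. -/
def setoid (X : Dᵒᵖ) : Setoid (A.obj.obj X) where
  r a b := ∃ r, p₁.hom.app X r = a ∧ p₂.hom.app X r = b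
  iseqv := (sections_rel J h X.unop).2

/-- The quotient presheaf. -/
def quotPsh : Dᵒᵖ ⥤ Type u where
  obj X := Quotient (setoid J h X)
  map {X Y} f := ↾(Quotient.map (A.obj.map f) (by
    rintro a b ⟨r, rfl, rfl⟩
    exact ⟨R.obj.map f r, (ConcreteCategory.congr_hom (p₁.hom.naturality f) r),
      (ConcreteCategory.congr_hom (p₂.hom.naturality f) r)⟩))
  map_id X := by
    ext x
    induction x using Quotient.inductionOn with
    | h a => exact congrArg (Quotient.mk _) (by simp)
  map_comp f g := by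
    ext x
    induction x using Quotient.inductionOn with
    | h a => exact congrArg (Quotient.mk _) (by simp)

/-- The projection. -/
def quotπ : A.obj ⟶ quotPsh J h where
  app X := ↾(Quotient.mk (setoid J h X))

lemma quot_isPullback : IsPullback p₁.hom p₂.hom (quotπ J h) (quotπ J h) := by
  have hc : p₁.hom ≫ quotπ J h = p₂.hom ≫ quotπ J h := by
    ext X r
    exact Quotient.sound (s := setoid J h X) ⟨r, rfl, rfl⟩
  refine ⟨⟨hc⟩, ⟨evaluationJointlyReflectsLimits _ fun X => (isLimitMapConePullbackConeEquiv _ _).symm ?_⟩⟩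
  exact (show IsPullback (p₁.hom.app X) (p₂.hom.app X) ((quotπ J h).app X) ((quotπ J h).app X) from
    (Types.isPullback_iff _ _ _ _).2 ⟨NatTrans.congr_app hc X,
      fun r r' ⟨e₁, e₂⟩ => (sections_rel J h X.unop).1 r r' e₁ e₂,
      fun a b e => Quotient.exact (s := setoid J h X) e⟩).isLimit

lemma quot_isPushout : IsPushout p₁.hom p₂.hom (quotπ J h) (quotπ J h) := by
  refine ⟨⟨(quot_isPullback J h).w⟩, ⟨PushoutCocone.isColimitAux' _ fun s => ?_⟩⟩
  have hs : ∀ (X : Dᵒᵖ) (a b : A.obj.obj X), (setoid J h X).r a b →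
      s.inl.app X a = s.inr.app X b := fun X a b ⟨r, h₁, h₂⟩ => by
    rw [← h₁, ← h₂]
    exact ConcreteCategory.congr_hom (NatTrans.congr_app s.condition X) r
  have hd : ∀ (X : Dᵒᵖ) (a : A.obj.obj X), s.inl.app X a = s.inr.app X a := fun X a =>
    hs X a a ((setoid J h X).iseqv.refl a)
  let l : quotPsh J h ⟶ s.pt :=
    { app := fun X => ↾(Quotient.lift (s.inl.app X) fun a b hab =>
        (hs X a b hab).trans (hd X b).symm)
      naturality := fun X Y f => by
        ext x
        induction x using Quotient.inductionOn with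
        | h a => exact ConcreteCategory.congr_hom (s.inl.naturality f) a }
  refine ⟨l, ?_, ?_, ?_⟩
  · ext X a; rfl
  · ext X a; exact hd X a
  · intro m hm _
    ext X x
    induction x using Quotient.inductionOn with
    | h a => exact ConcreteCategory.congr_hom (NatTrans.congr_app hm X) a

end quot

lemma sheaf_equiv (R A : Sheaf J (Type u)) (p₁ p₂ : R ⟶ A) (h : SGA4.IsEquivRel p₁ p₂) :
    SGA4.IsEffectiveUniversalEquivRel p₁ p₂ := by
  let adj := sheafificationAdjunction J (Type u)
  let L := presheafToSheaf J (Type u)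
  haveI : L.IsLeftAdjoint := ⟨_, ⟨adj⟩⟩
  let π : A ⟶ L.obj (quotPsh J h) := inv (adj.counit.app A) ≫ L.map (quotπ J h)
  have n₁ : adj.counit.app R ≫ p₁ = L.map p₁.hom ≫ adj.counit.app A :=
    (adj.counit.naturality p₁).symm
  have n₂ : adj.counit.app R ≫ p₂ = L.map p₂.hom ≫ adj.counit.app A :=
    (adj.counit.naturality p₂).symm
  have hpb : IsPullback p₁ p₂ π π := ((quot_isPullback J h).map L).of_iso
    (asIso (adj.counit.app R)) (asIso (adj.counit.app A)) (asIso (adj.counit.app A)) (Iso.refl _)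
    n₁.symm n₂.symm (by simp [π]) (by simp [π])
  have hpo : IsPushout p₁ p₂ π π := ((quot_isPushout J h).map L).of_iso
    (asIso (adj.counit.app R)) (asIso (adj.counit.app A)) (asIso (adj.counit.app A)) (Iso.refl _)
    n₁.symm n₂.symm (by simp [π]) (by simp [π])
  haveI : Epi π := ⟨fun a b hab => hpo.hom_ext hab hab⟩
  exact ⟨_, π, hpb, hpo, fun B' g => effectiveEpi_pullback_snd J π g⟩

theorem sheaf_axioms : Axioms (Sheaf J (Type u)) :=
  ⟨sheaf_coproducts J, sheaf_equiv J⟩

end TopLib
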