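/-
Generators of sheaf topoi and covers of accessible images by small families.
-/
import Groth.Agent.TopLib.GiraudTop
import Groth.Agent.S3082
import Mathlib.CategoryTheory.Presentable.Presheaf
import Mathlib.CategoryTheory.Presentable.Type

set_option autoImplicit false
set_option linter.style.haveILetI false

universe v u

open CategoryTheory Limits Opposite

namespace TopLib

variable {C : Type u} [SmallCategory C] (J : GrothendieckTopology C)

lemma sheaf_gen : Nonempty (Gen (Sheaf J (Type u))) := by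
  refine nonempty_gen ⟨_, inferInstance, Groth.Agent.S3082.result J Set.univ fun X => ?_⟩
  exact ⟨PUnit, fun _ => X, fun _ => 𝟙 X, J.superset_covering
    (fun Y f _ => ⟨X, f, 𝟙 X, ⟨PUnit.unit⟩, Category.comp_id f⟩) (J.top_mem X), fun _ => trivial⟩

variable {A : Type v} [Category.{u} A]

lemma exists_small_cover (ρ : Sheaf J (Type u) ⥤ A) [ρ.IsAccessible.{u}] :
    ∃ (S : Type u) (P : S → Sheaf J (Type u)), ∀ X : Sheaf J (Type u),
      ∃ T : Sieve (ρ.obj X), Extremal T ∧ ∀ ⦃Y : A⦄ (f : Y ⟶ ρ.obj X), T f →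
        ∃ (s : S) (p : P s ⟶ X) (a : Y ⟶ ρ.obj (P s)), a ≫ ρ.map p = f := by
  obtain ⟨κ, _, _⟩ := Functor.IsAccessible.exists_cardinal.{u} (F := ρ)
  haveI : IsCardinalLocallyPresentable (Cᵒᵖ ⥤ Type u) κ := inferInstance
  obtain ⟨Q, _, hQ⟩ := HasCardinalFilteredGenerator.exists_small_generator.{u} (Cᵒᵖ ⥤ Type u) κ
  let L := presheafToSheaf J (Type u)
  let adj := sheafificationAdjunction J (Type u)
  haveI : L.IsLeftAdjoint := ⟨_, ⟨adj⟩⟩
  refine ⟨Shrink.{u} (Subtype Q), fun s => L.obj ((equivShrink _).symm s).1, fun X => ?_⟩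
  obtain ⟨I, _, _, ⟨p⟩⟩ := hQ.exists_colimitsOfShape X.obj
  haveI := Functor.preservesColimitsOfShape_of_isCardinalAccessible ρ κ I
  let c := L.mapCocone p.cocone
  let e : L.obj X.obj ≅ X := asIso (adj.counit.app X)
  let c' := c.extend e.hom
  have hc' : IsColimit c' := IsColimit.extendIso e.hom (isColimitOfPreserves L p.isColimit)
  have hρ : IsColimit (ρ.mapCocone c') := isColimitOfPreserves ρ hc'
  refine ⟨Sieve.ofArrows _ fun i => ρ.map (c'.ι.app i), ?_, fun Y f hf => ?_⟩
  · intro Z m hm hf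
    choose h hh using fun i => hf _ (Sieve.ofArrows_mk _ (fun i => ρ.map (c'.ι.app i)) i)
    let s : Cocone ((p.diag ⋙ L) ⋙ ρ) :=
      { pt := Z
        ι :=
          { app := h
            naturality := fun i j g => by
              refine (cancel_mono m).1 ?_
              refine ((Category.assoc _ _ _).trans (congrArg (_ ≫ ·) (hh j))).trans ?_
              refine ((ρ.mapCocone c').w g).trans ((hh i).symm.trans ?_)
              exact congrArg (· ≫ m) (Category.comp_id (h i)).symm } }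
    have hs : hρ.desc s ≫ m = 𝟙 (ρ.obj X) := hρ.hom_ext fun i => by
      rw [← Category.assoc, hρ.fac]
      exact (hh i).trans (Category.comp_id _).symm
    exact ⟨hρ.desc s, (cancel_mono m).1 (by rw [Category.assoc, hs, Category.comp_id, Category.id_comp]), hs⟩
  · obtain ⟨_, a, _, ⟨i⟩, rfl⟩ := hf
    have key : ∀ (V : Subtype Q), ∀ (q : L.obj V.1 ⟶ X) (b : _ ⟶ ρ.obj (L.obj V.1)),
        b ≫ ρ.map q = a ≫ ρ.map (c'.ι.app i) →
        ∃ (s : Shrink.{u} (Subtype Q)) (q' : L.obj ((equivShrink _).symm s).1 ⟶ X)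
          (b' : _ ⟶ ρ.obj (L.obj ((equivShrink _).symm s).1)),
          b' ≫ ρ.map q' = a ≫ ρ.map (c'.ι.app i) := fun V q b hb => by
      obtain ⟨s, rfl⟩ := (equivShrink (Subtype Q)).symm.surjective V
      exact ⟨s, q, b, hb⟩
    exact key ⟨p.diag.obj i, p.prop_diag_obj i⟩ (c'.ι.app i) a rfl

end TopLib
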