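/-
Left exact functors between sheaf topoi preserving epimorphic families are left adjoints.
-/
import Groth.Agent.TopLib.SheafGiraud
import Groth.Agent.TopLib.Access
import Mathlib.CategoryTheory.Sites.Localization
import Mathlib.CategoryTheory.Adjunction.Restrict

set_option autoImplicit false
set_option linter.style.haveILetI false
set_option linter.deprecated false
set_option linter.unusedSectionVars false

universe u

open CategoryTheory Limits Opposite

namespace TopLib

variable {C D : Type u} [SmallCategory C] [SmallCategory D] {J : GrothendieckTopology C}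
  {K : GrothendieckTopology D}

lemma epiFamily_cover {V : C} (S : Sieve V) (hS : S ∈ J V) :
    SGA4.IsEpiFamily.{u, u + 1, u} (ι := Σ W : C, {g : W ⟶ V // S g})
      fun i => (presheafToSheaf J (Type u)).map (yoneda.map i.2.1) := by
  intro Z a b h
  apply ((sheafificationAdjunction J (Type u)).homEquiv _ _).injective
  apply yonedaEquiv.injective
  refine (((isSheaf_iff_isSheaf_of_type J _).1 Z.property).isSeparated S hS).ext fun W g hg => ?_
  rw [yonedaEquiv_naturality, yonedaEquiv_naturality, ← Adjunction.homEquiv_naturality_left,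
    ← Adjunction.homEquiv_naturality_left, h ⟨W, g, hg⟩]

variable (f : Sheaf J (Type u) ⥤ Sheaf K (Type u))

/-- The candidate right adjoint on presheaves. -/
noncomputable def raPsh : Sheaf K (Type u) ⥤ (Cᵒᵖ ⥤ Type u) where
  obj G :=
    { obj := fun W => f.obj ((presheafToSheaf J (Type u)).obj (yoneda.obj W.unop)) ⟶ G
      map := fun g => ↾fun φ => f.map ((presheafToSheaf J (Type u)).map (yoneda.map g.unop)) ≫ φ
      map_id := fun W => by ext φ; simp
      map_comp := fun g h => by ext φ; simp }
  map γ := { app := fun W => ↾fun φ => φ ≫ γ }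

variable [PreservesFiniteLimits f] (hf : SGA4.PreservesEpiFamilies.{u + 1, u + 1, u} f)
include hf

lemma glue_unique {P : Cᵒᵖ ⥤ Type u} {G : Sheaf K (Type u)}
    {φ φ' : f.obj ((presheafToSheaf J (Type u)).obj P) ⟶ G}
    (h : ∀ (W : C) (x : P.obj (op W)),
      f.map ((presheafToSheaf J (Type u)).map (yonedaEquiv.symm x)) ≫ φ =
        f.map ((presheafToSheaf J (Type u)).map (yonedaEquiv.symm x)) ≫ φ') : φ = φ' := by
  refine hf (Σ W : C, P.obj (op W)) _ _
    (fun i => (presheafToSheaf J (Type u)).map (yonedaEquiv.symm i.2)) (fun Z a b e => ?_) _ φ φ'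
    fun i => h i.1 i.2
  apply ((sheafificationAdjunction J (Type u)).homEquiv _ _).injective
  ext ⟨W⟩ x
  have := congrArg ((sheafificationAdjunction J (Type u)).homEquiv _ _) (e ⟨W, x⟩)
  rw [Adjunction.homEquiv_naturality_left, Adjunction.homEquiv_naturality_left] at this
  simpa [yonedaEquiv_comp] using congrArg yonedaEquiv this

lemma glue_compat {P : Cᵒᵖ ⥤ Type u} {G : Sheaf K (Type u)} (ψ : P ⟶ (raPsh f).obj G)
    {W W' : C} (x : P.obj (op W)) (y : P.obj (op W')) {T : Sheaf J (Type u)}
    (a : T ⟶ (presheafToSheaf J (Type u)).obj (yoneda.obj W))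
    (b : T ⟶ (presheafToSheaf J (Type u)).obj (yoneda.obj W'))
    (e : a ≫ (presheafToSheaf J (Type u)).map (yonedaEquiv.symm x) =
      b ≫ (presheafToSheaf J (Type u)).map (yonedaEquiv.symm y)) :
    f.map a ≫ ψ.app (op W) x = f.map b ≫ ψ.app (op W') y := by
  let L := presheafToSheaf J (Type u)
  let adj := sheafificationAdjunction J (Type u)
  -- reduce to representable sources
  refine hf (Σ V : C, T.obj.obj (op V)) T (fun i => L.obj (yoneda.obj i.1))
    (fun i => (adj.homEquiv _ _).symm (yonedaEquiv.symm i.2)) (fun Z p q h => ?_) _ _ _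
    fun ⟨V, t⟩ => ?_
  · refine Sheaf.hom_ext ?_
    ext ⟨V⟩ t
    have := congrArg (fun k => yonedaEquiv (adj.homEquiv _ _ k)) (h ⟨V, t⟩)
    simp only [Adjunction.homEquiv_naturality_right, Equiv.apply_symm_apply] at this
    simpa [yonedaEquiv_comp] using this
  let t' : L.obj (yoneda.obj V) ⟶ T := (adj.homEquiv _ _).symm (yonedaEquiv.symm t)
  show f.map t' ≫ f.map a ≫ _ = f.map t' ≫ f.map b ≫ _
  rw [← Category.assoc, ← Category.assoc, ← f.map_comp, ← f.map_comp]
  have e' : (t' ≫ a) ≫ L.map (yonedaEquiv.symm x) = (t' ≫ b) ≫ L.map (yonedaEquiv.symm y) := by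
    rw [Category.assoc, Category.assoc, e]
  generalize t' ≫ a = a' at e' ⊢
  generalize t' ≫ b = b' at e' ⊢
  -- lift locally to representable maps
  let sa : (sheafify J (yoneda.obj W)).obj (op V) := yonedaEquiv (adj.homEquiv _ _ a')
  let sb : (sheafify J (yoneda.obj W')).obj (op V) := yonedaEquiv (adj.homEquiv _ _ b')
  have hlift : ∀ {W₀ : C} (a₀ : L.obj (yoneda.obj V) ⟶ L.obj (yoneda.obj W₀)) {V' : C} (g : V' ⟶ V)
      (w : V' ⟶ W₀), (toSheafify J (yoneda.obj W₀)).app (op V') w =
        (sheafify J (yoneda.obj W₀)).map g.op (yonedaEquiv (adj.homEquiv _ _ a₀)) →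
      L.map (yoneda.map g) ≫ a₀ = L.map (yoneda.map w) := fun a₀ V' g w h => by
    apply (adj.homEquiv _ _).injective
    apply yonedaEquiv.injective
    rw [Adjunction.homEquiv_naturality_left, ← yonedaEquiv_naturality]
    refine h.symm.trans ?_
    rw [Adjunction.homEquiv_unit]
    refine Eq.trans ?_ (congrArg yonedaEquiv (adj.unit.naturality (yoneda.map w)))
    rw [yonedaEquiv_comp]
    exact congrArg ((toSheafify J (yoneda.obj _)).app (op V')) (yonedaEquiv_yoneda_map w).symm
  refine hf _ _ _ _ (epiFamily_cover _ (J.intersection_covering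
    (Presheaf.imageSieve_mem J (toSheafify J (yoneda.obj W)) (U := op V) sa)
    (Presheaf.imageSieve_mem J (toSheafify J (yoneda.obj W')) (U := op V) sb))) _ _ _
    fun ⟨V', g, ⟨w, hw⟩, ⟨w', hw'⟩⟩ => ?_
  dsimp only
  rw [← Category.assoc, ← Category.assoc, ← f.map_comp, ← f.map_comp, hlift a' g w hw, hlift b' g w' hw']
  have e₂ : L.map (yonedaEquiv.symm (P.map w.op x)) = L.map (yonedaEquiv.symm (P.map w'.op y)) := by
    have h₁ := congrArg (L.map (yoneda.map g) ≫ ·) e'
    simp only [← Category.assoc, hlift a' g w hw, hlift b' g w' hw', ← Functor.map_comp] at h₁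
    rw [yonedaEquiv_symm_naturality_left, yonedaEquiv_symm_naturality_left] at h₁
    exact h₁
  have hev : ∀ z : P.obj (op V'),
      yonedaEquiv (adj.homEquiv _ _ (L.map (yonedaEquiv.symm z))) = (toSheafify J P).app (op V') z := fun z => by
    rw [Adjunction.homEquiv_unit]
    refine (congrArg yonedaEquiv (adj.unit.naturality (yonedaEquiv.symm z)).symm).trans ?_
    rw [yonedaEquiv_comp]
    exact congrArg ((toSheafify J P).app (op V')) (yonedaEquiv.apply_symm_apply z)
  have e₃ : (toSheafify J P).app (op V') (P.map w.op x) = (toSheafify J P).app (op V') (P.map w'.op y) :=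
    (hev _).symm.trans ((congrArg (fun k => yonedaEquiv (adj.homEquiv _ _ k)) e₂).trans (hev _))
  have n₁ : f.map (L.map (yoneda.map w)) ≫ ψ.app (op W) x = ψ.app (op V') (P.map w.op x) :=
    (ConcreteCategory.congr_hom (ψ.naturality w.op) x).symm
  have n₂ : f.map (L.map (yoneda.map w')) ≫ ψ.app (op W') y = ψ.app (op V') (P.map w'.op y) :=
    (ConcreteCategory.congr_hom (ψ.naturality w'.op) y).symm
  rw [n₁, n₂]
  refine hf _ _ _ _ (epiFamily_cover _ (Presheaf.equalizerSieve_mem J (toSheafify J P) _ _ e₃)) _ _ _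
    fun ⟨V'', k, hk⟩ => ?_
  exact (ConcreteCategory.congr_hom (ψ.naturality k.op) _).symm.trans
    ((congrArg (ψ.app (op V'')) hk).trans (ConcreteCategory.congr_hom (ψ.naturality k.op) _))

lemma exists_glue {P : Cᵒᵖ ⥤ Type u} {G : Sheaf K (Type u)} (ψ : P ⟶ (raPsh f).obj G) :
    ∃ φ : f.obj ((presheafToSheaf J (Type u)).obj P) ⟶ G, ∀ (W : C) (x : P.obj (op W)),
      f.map ((presheafToSheaf J (Type u)).map (yonedaEquiv.symm x)) ≫ φ = ψ.app (op W) x := by
  let L := presheafToSheaf J (Type u)
  obtain ⟨gen⟩ := sheaf_gen K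
  have ax := sheaf_axioms K
  haveI := ax.hasCoproducts
  let I := Σ W : C, P.obj (op W)
  let Gf : I → Sheaf K (Type u) := fun i => f.obj (L.obj (yoneda.obj i.1))
  let c : Cofan Gf := Cofan.mk _ (Sigma.ι Gf)
  let hc : IsColimit c := coproductIsCoproduct _
  let π : c.pt ⟶ f.obj (L.obj P) := Cofan.IsColimit.desc hc fun i => f.map (L.map (yonedaEquiv.symm i.2))
  let e : c.pt ⟶ G := Cofan.IsColimit.desc hc fun i => ψ.app (op i.1) i.2
  haveI : Epi π := ⟨fun p q h => glue_unique f hf fun W x => by
    have := congrArg (c.inj ⟨W, x⟩ ≫ ·) h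
    simpa [π] using this⟩
  haveI : EffectiveEpi π := by
    have := IsRegularEpiCategory.regularEpiOfEpi π
    infer_instance
  have he : ∀ {T : Sheaf K (Type u)} (g₁ g₂ : T ⟶ c.pt), g₁ ≫ π = g₂ ≫ π → g₁ ≫ e = g₂ ≫ e := by
    intro T g₁ g₂ h
    have hcov : Sieve.ofArrows _ (Cofan.inj c) ∈ gen.topology ax c.pt := extremal_of_isColimit hc
    refine gen.hom_ext_cover ax ((gen.topology ax).intersection_covering
      ((gen.topology ax).pullback_stable g₁ hcov) ((gen.topology ax).pullback_stable g₂ hcov))
      fun Y k hk => ?_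
    obtain ⟨⟨_, a, _, ⟨i⟩, ha⟩, ⟨_, b, _, ⟨j⟩, hb⟩⟩ := hk
    rw [← reassoc_of% ha, ← reassoc_of% hb]
    simp only [e, Cofan.IsColimit.fac]
    have hab : a ≫ f.map (L.map (yonedaEquiv.symm i.2)) = b ≫ f.map (L.map (yonedaEquiv.symm j.2)) := by
      have := congrArg (k ≫ ·) h
      simp only [← reassoc_of% ha, ← reassoc_of% hb] at this
      simpa [π] using this
    have hp := (IsPullback.of_hasPullback (L.map (yonedaEquiv.symm i.2)) (L.map (yonedaEquiv.symm j.2))).map f
    rw [← hp.lift_fst a b hab]
    conv_rhs => rw [← hp.lift_snd a b hab]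
    rw [Category.assoc, Category.assoc]
    exact congrArg (hp.lift a b hab ≫ ·) (glue_compat f hf ψ i.2 j.2 _ _ pullback.condition)
  exact ⟨EffectiveEpi.desc π e he, fun W x =>
    ((Cofan.IsColimit.fac hc (fun i => f.map (L.map (yonedaEquiv.symm i.2))) (⟨W, x⟩ : I)).symm =≫
      EffectiveEpi.desc π e he).trans ((Category.assoc _ _ _).trans
      ((Cofan.inj c ⟨W, x⟩ ≫= EffectiveEpi.fac π e he).trans (Cofan.IsColimit.fac hc _ _)))⟩

/-- The adjunction for `presheafToSheaf ⋙ f`. -/
noncomputable def pshAdj : presheafToSheaf J (Type u) ⋙ f ⊣ raPsh f :=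
  Adjunction.mkOfHomEquiv
    { homEquiv := fun P G =>
        { toFun := fun φ =>
            { app := fun W => ↾fun x =>
                f.map ((presheafToSheaf J (Type u)).map (yonedaEquiv.symm x)) ≫ φ
              naturality := fun W W' g => by
                ext x
                show f.map (_) ≫ φ = f.map _ ≫ f.map _ ≫ φ
                rw [← Category.assoc, ← Functor.map_comp, ← Functor.map_comp,
                  yonedaEquiv_symm_naturality_left]
                rfl }
          invFun := fun ψ => (exists_glue f hf ψ).choose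
          left_inv := fun φ => glue_unique f hf fun W x => (exists_glue f hf _).choose_spec W x
          right_inv := fun ψ => by
            ext ⟨W⟩ x
            exact (exists_glue f hf ψ).choose_spec W x }
      homEquiv_naturality_left_symm := fun {P' P G} g ψ => glue_unique f hf fun W x => by
        refine ((exists_glue f hf _).choose_spec W x).trans ?_
        show ψ.app (op W) (g.app (op W) x) = _
        rw [Functor.comp_map, ← Category.assoc, ← Functor.map_comp, ← Functor.map_comp,
          yonedaEquiv_symm_naturality_right]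
        exact ((exists_glue f hf ψ).choose_spec W _).symm
      homEquiv_naturality_right := fun {P G G'} φ γ => by
        ext ⟨W⟩ x
        exact (Category.assoc _ _ _).symm }

lemma isSheaf_raPsh (G : Sheaf K (Type u)) : Presheaf.IsSheaf J ((raPsh f).obj G) := by
  have hloc : J.W.isLocal ((raPsh f).obj G) := fun P Q g hg => by
    haveI : IsIso ((presheafToSheaf J (Type u)).map g) := (J.W_iff g).1 hg
    let e := (pshAdj f hf).homEquiv
    have : (fun k : Q ⟶ (raPsh f).obj G => g ≫ k) =
        e _ _ ∘ (asIso (f.map ((presheafToSheaf J (Type u)).map g))).symm.homFromEquiv ∘ (e _ _).symm := by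
      funext k
      obtain ⟨k, rfl⟩ := (e _ _).surjective k
      simp only [Function.comp_apply, Equiv.symm_apply_apply]
      exact ((pshAdj f hf).homEquiv_naturality_left _ _).symm
    rw [this]
    exact (e _ _).bijective.comp ((Equiv.bijective _).comp (e _ _).symm.bijective)
  let P := (raPsh f).obj G
  have hW : J.W (toSheafify J P) := GrothendieckTopology.W_adj_unit_app J (sheafificationAdjunction J (Type u)) P
  obtain ⟨r, hr⟩ := (hloc _ hW).2 (𝟙 P)
  have hr' : r ≫ toSheafify J P = 𝟙 _ :=
    sheafify_hom_ext J _ _ ((presheafToSheaf J (Type u)).obj P).property (by rw [← Category.assoc]; exact (hr =≫ toSheafify J P).trans (by simp))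
  exact (Presheaf.isSheaf_of_iso_iff (⟨r, toSheafify J P, hr', hr⟩ : sheafify J P ≅ P)).1 ((presheafToSheaf J (Type u)).obj P).property

theorem isLeftAdjoint_of_lex : f.IsLeftAdjoint := by
  let R : Sheaf K (Type u) ⥤ Sheaf J (Type u) := ObjectProperty.lift _ (raPsh f) (isSheaf_raPsh f hf)
  exact ⟨R, ⟨(pshAdj f hf).restrictFullyFaithful (fullyFaithfulSheafToPresheaf J (Type u))
    (Functor.FullyFaithful.id _)
    ((Functor.associator _ _ _).symm ≪≫ Functor.isoWhiskerRight
      (asIso (sheafificationAdjunction J (Type u)).counit) f ≪≫ f.leftUnitor ≪≫ f.rightUnitor.symm)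
    (Iso.refl _)⟩⟩

end TopLib
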