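/-
The closed complement of an open subtopos.
-/
import Groth.Prelude.Def_SGA4a
import Mathlib.CategoryTheory.Sites.EpiMono
import Mathlib.CategoryTheory.Sites.LocallyBijective
import Mathlib.CategoryTheory.Sites.LeftExact
import Mathlib.CategoryTheory.Comma.Over.Pullback
import Mathlib.CategoryTheory.Adjunction.Restrict
import Mathlib.CategoryTheory.Adjunction.Triple
import Mathlib.CategoryTheory.Limits.FunctorCategory.Basic
import Mathlib.CategoryTheory.Limits.Preserves.Shapes.BinaryProducts

set_option autoImplicit false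
set_option linter.style.haveILetI false
set_option linter.deprecated false
set_option linter.unusedSectionVars false

universe u

open CategoryTheory Limits Opposite

namespace TopLib

variable {C : Type u} [SmallCategory C] {J : GrothendieckTopology C}
variable (U : Sheaf J (Type u))

lemma res_isEmpty {V V' : Cᵒᵖ} (g : V ⟶ V') (h : IsEmpty (U.obj.obj V')) :
    IsEmpty (U.obj.obj V) :=
  ⟨fun u => h.elim (U.obj.map g u)⟩

/-- The closed modification of a presheaf: sections forgotten where `U` is inhabited. -/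
def cmObj (X : Cᵒᵖ ⥤ Type u) : Cᵒᵖ ⥤ Type u where
  obj V := IsEmpty (U.obj.obj V) → X.obj V
  map g := ↾fun f h => X.map g (f (res_isEmpty U g h))
  map_id V := by ext f h; simp
  map_comp g g' := by ext f h; simp

/-- The closed modification functor. -/
def cm : (Cᵒᵖ ⥤ Type u) ⥤ Cᵒᵖ ⥤ Type u where
  obj := cmObj U
  map φ :=
    { app := fun V => ↾fun f h => φ.app V (f h)
      naturality := fun V V' g => by
        ext f
        funext h
        exact ConcreteCategory.congr_hom (φ.naturality g) (f (res_isEmpty U g h)) }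

/-- `X ⟶ cm X`. -/
def cmη (X : Cᵒᵖ ⥤ Type u) : X ⟶ (cm U).obj X where
  app V := ↾fun x _ => x

lemma cmη_naturality {X Y : Cᵒᵖ ⥤ Type u} (φ : X ⟶ Y) :
    φ ≫ cmη U Y = cmη U X ≫ (cm U).map φ := rfl

/-- Postcomposition with a fixed exponent. -/
def powFunctor (p : Prop) : Type u ⥤ Type u where
  obj T := p → T
  map φ := ↾fun f h => φ (f h)

instance (p : Prop) : PreservesFiniteLimits (powFunctor.{u} p) := by
  have : PreservesLimitsOfSize.{0, 0} (powFunctor.{u} p) :=
    { preservesLimitsOfShape := fun {K _} => { preservesLimit := fun {F} =>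
        { preserves := fun {c} hc => ⟨by
            refine (Types.isLimit_iff _).2 (fun s hs => ?_) |>.some
            have key : ∀ h : p, ∃! x : c.pt, ∀ k, c.π.app k x = s k h := fun h =>
              (Types.isLimit_iff c).1 ⟨hc⟩ (fun k => s k h)
                (fun {k k'} g => congrFun (hs g) h)
            refine ⟨fun h => (key h).exists.choose, fun k => funext fun h =>
              (key h).exists.choose_spec k, fun f hf => funext fun h => ?_⟩
            exact (key h).unique (fun k => congrFun (hf k) h) (key h).exists.choose_spec⟩ } } }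
  exact PreservesLimitsOfSize.preservesFiniteLimits _

instance : PreservesFiniteLimits (cm U) where
  preservesFiniteLimits K _ _ := by
    refine preservesLimitsOfShape_of_evaluation _ _ fun V => ?_
    exact preservesLimitsOfShape_of_natIso
      (show (evaluation Cᵒᵖ (Type u)).obj V ⋙ powFunctor (IsEmpty (U.obj.obj V)) ≅
        cm U ⋙ (evaluation Cᵒᵖ (Type u)).obj V from NatIso.ofComponents fun X => Iso.refl _)

variable {U}

lemma subsingleton_open (hU : SGA4.IsOpen U) (V : Cᵒᵖ) : Subsingleton (U.obj.obj V) := by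
  haveI : Mono (terminal.from U) := hU
  have hT : IsTerminal ((⊤_ (Sheaf J (Type u))).obj.obj V) :=
    IsTerminal.isTerminalObj ((evaluation Cᵒᵖ (Type u)).obj V) _
      (IsTerminal.isTerminalObj (sheafToPresheaf J (Type u)) _ terminalIsTerminal)
  haveI : Mono ((sheafToPresheaf J (Type u)).map (terminal.from U)) := inferInstance
  haveI hm : Mono ((terminal.from U).hom.app V) :=
    inferInstanceAs (Mono (((evaluation Cᵒᵖ (Type u)).obj V).map
      ((sheafToPresheaf J (Type u)).map (terminal.from U))))
  refine ⟨fun a b => (mono_iff_injective _).1 hm ?_⟩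
  exact ((Types.isTerminalEquivUnique _) hT).instSubsingleton.elim _ _

lemma isPullback_prod_app (X : Sheaf J (Type u)) (V : Cᵒᵖ) :
    IsPullback ((prod.fst : U ⨯ X ⟶ U).hom.app V) ((prod.snd : U ⨯ X ⟶ X).hom.app V)
      ((terminal.from U).hom.app V) ((terminal.from X).hom.app V) :=
  ((IsPullback.of_is_product (prodIsProd U X) terminalIsTerminal).map
    (sheafToPresheaf J (Type u))).map ((evaluation Cᵒᵖ (Type u)).obj V)

lemma terminal_subsingleton (V : Cᵒᵖ) :
    Subsingleton ((⊤_ (Sheaf J (Type u))).obj.obj V) :=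
  ((Types.isTerminalEquivUnique _) (IsTerminal.isTerminalObj ((evaluation Cᵒᵖ (Type u)).obj V) _
      (IsTerminal.isTerminalObj (sheafToPresheaf J (Type u)) _ terminalIsTerminal))).instSubsingleton

lemma exists_pair (X : Sheaf J (Type u)) {V : Cᵒᵖ} (u : U.obj.obj V) (x : X.obj.obj V) :
    ∃ p : (U ⨯ X).obj.obj V,
      (prod.fst : U ⨯ X ⟶ U).hom.app V p = u ∧ (prod.snd : U ⨯ X ⟶ X).hom.app V p = x :=
  Types.exists_of_isPullback (isPullback_prod_app X V) u x ((terminal_subsingleton V).elim _ _)

lemma pair_ext (X : Sheaf J (Type u)) {V : Cᵒᵖ} {p q : (U ⨯ X).obj.obj V}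
    (h₁ : (prod.fst : U ⨯ X ⟶ U).hom.app V p = (prod.fst : U ⨯ X ⟶ U).hom.app V q)
    (h₂ : (prod.snd : U ⨯ X ⟶ X).hom.app V p = (prod.snd : U ⨯ X ⟶ X).hom.app V q) : p = q :=
  Types.ext_of_isPullback (isPullback_prod_app X V) h₁ h₂

lemma isIso_iff_app {X Y : Sheaf J (Type u)} (m : X ⟶ Y) :
    IsIso m ↔ ∀ V, Function.Bijective (m.hom.app V) := by
  rw [← isIso_iff_of_reflects_iso m (sheafToPresheaf J (Type u)), NatTrans.isIso_iff_isIso_app]
  exact forall_congr' fun V => isIso_iff_bijective _

lemma closedCompl_iff (X : Sheaf J (Type u)) :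
    SGA4.closedCompl U X ↔ ∀ V, Nonempty (U.obj.obj V) → ∃! _x : X.obj.obj V, True := by
  show IsIso (prod.fst : U ⨯ X ⟶ U) ↔ _
  rw [isIso_iff_app]
  refine ⟨fun h V ⟨u⟩ => ?_, fun h V => ⟨fun p q e => ?_, fun u => ?_⟩⟩
  · obtain ⟨p, hp⟩ := (h V).2 u
    refine ⟨(prod.snd : U ⨯ X ⟶ X).hom.app V p, trivial, fun x _ => ?_⟩
    obtain ⟨q, hq₁, hq₂⟩ := exists_pair X u x
    rw [← hq₂, (h V).1 (hp.trans hq₁.symm)]
  · exact pair_ext X e ((h V ⟨(prod.fst : U ⨯ X ⟶ U).hom.app V p⟩).unique trivial trivial)
  · obtain ⟨x, -⟩ := h V ⟨u⟩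
    obtain ⟨p, hp, -⟩ := exists_pair X u x
    exact ⟨p, hp⟩

variable (U)

/-- The reflection into the closed complement, as a sheaf. -/
noncomputable def clObj (X : Sheaf J (Type u)) : Sheaf J (Type u) :=
  (presheafToSheaf J (Type u)).obj ((cm U).obj X.obj)

lemma closedCompl_clObj (X : Sheaf J (Type u)) : SGA4.closedCompl U (clObj U X) := by
  rw [closedCompl_iff]
  rintro V ⟨u⟩
  let η := toSheafify J ((cm U).obj X.obj)
  refine ⟨η.app V (fun h => (h.elim u)), trivial, fun y _ => ?_⟩
  refine (((isSheaf_iff_isSheaf_of_type J _).1 (clObj U X).property).isSeparated _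
    (Presheaf.imageSieve_mem J η y)).ext fun W f ⟨z, hz⟩ => ?_
  refine hz.symm.trans ?_
  refine (congrArg (η.app _) (funext fun h => (res_isEmpty U f.op h).elim u)).trans
    (ConcreteCategory.congr_hom (η.naturality f.op) _)

/-- The reflector into the closed complement. -/
noncomputable def clFun : Sheaf J (Type u) ⥤ (SGA4.closedCompl U).FullSubcategory :=
  ObjectProperty.lift _ (sheafToPresheaf J (Type u) ⋙ cm U ⋙ presheafToSheaf J (Type u))
    (closedCompl_clObj U)

instance : PreservesFiniteLimits (sheafToPresheaf J (Type u) ⋙ cm U ⋙ presheafToSheaf J (Type u)) := by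
  haveI : PreservesFiniteLimits (cm U ⋙ presheafToSheaf J (Type u)) := comp_preservesFiniteLimits _ _
  exact comp_preservesFiniteLimits _ _

instance : PreservesFiniteLimits (clFun U) where
  preservesFiniteLimits K _ _ := by
    haveI : PreservesLimitsOfShape K (clFun U ⋙ (SGA4.closedCompl U).ι) :=
      preservesLimitsOfShape_of_natIso
        (show sheafToPresheaf J (Type u) ⋙ cm U ⋙ presheafToSheaf J (Type u) ≅
          clFun U ⋙ (SGA4.closedCompl U).ι from Iso.refl _)
    exact preservesLimitsOfShape_of_reflects_of_preserves _ (SGA4.closedCompl U).ι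

section hom

variable {U} (Y : Sheaf J (Type u)) (hY : SGA4.closedCompl U Y)
include hY

lemma cm_hom_ext {X : Cᵒᵖ ⥤ Type u} {g g' : (cm U).obj X ⟶ Y.obj}
    (h : cmη U X ≫ g = cmη U X ≫ g') : g = g' := by
  ext V q
  by_cases hV : IsEmpty (U.obj.obj V)
  · rw [show q = (cmη U X).app V (q hV) from rfl]
    exact ConcreteCategory.congr_hom (NatTrans.congr_app h V) (q hV)
  · exact ((closedCompl_iff Y).1 hY V (not_isEmpty_iff.1 hV)).unique trivial trivial

open Classical in
/-- Extension of maps to closed objects along `cmη`. -/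
noncomputable def cmLift {X : Cᵒᵖ ⥤ Type u} (f : X ⟶ Y.obj) : (cm U).obj X ⟶ Y.obj :=
  { app := fun V => ↾fun q => if h : IsEmpty (U.obj.obj V) then f.app V (q h)
      else ((closedCompl_iff Y).1 hY V (not_isEmpty_iff.1 h)).exists.choose
    naturality := fun V V' g => by
      ext q
      classical
      by_cases h : IsEmpty (U.obj.obj V')
      · have h' := res_isEmpty U g h
        show (if h : _ then _ else _) = Y.obj.map g (if h : _ then _ else _)
        rw [dif_pos h, dif_pos h']
        exact ConcreteCategory.congr_hom (f.naturality g) (q h')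
      · exact ((closedCompl_iff Y).1 hY V' (not_isEmpty_iff.1 h)).unique trivial trivial }

lemma cmη_cmLift {X : Cᵒᵖ ⥤ Type u} (f : X ⟶ Y.obj) : cmη U X ≫ cmLift Y hY f = f := by
  classical
  ext V x
  show (if h : _ then _ else _) = _
  split_ifs with h
  · rfl
  · exact ((closedCompl_iff Y).1 hY V (not_isEmpty_iff.1 h)).unique trivial trivial

end hom

/-- The unit of the reflection. -/
noncomputable def clη (X : Sheaf J (Type u)) : X ⟶ clObj U X :=
  ⟨cmη U X.obj ≫ toSheafify J _⟩

/-- Maps out of the reflection. -/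
noncomputable def clHomEquiv (X : Sheaf J (Type u)) (Y : (SGA4.closedCompl U).FullSubcategory) :
    ((clFun U).obj X ⟶ Y) ≃ (X ⟶ (SGA4.closedCompl U).ι.obj Y) :=
  (ObjectProperty.fullyFaithfulι _).homEquiv.trans <|
    ((sheafificationAdjunction J (Type u)).homEquiv _ _).trans <|
    { toFun := fun g => ⟨cmη U X.obj ≫ g⟩
      invFun := fun f => cmLift Y.obj Y.property f.hom
      left_inv := fun g => cm_hom_ext Y.obj Y.property (cmη_cmLift _ _ _)
      right_inv := fun f => Sheaf.hom_ext (cmη_cmLift _ _ _) }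

/-- The reflection adjunction. -/
noncomputable def clAdj : clFun U ⊣ (SGA4.closedCompl U).ι :=
  Adjunction.mkOfHomEquiv
    { homEquiv := clHomEquiv U
      homEquiv_naturality_left_symm := fun {X' X Y} f g => by
        apply (clHomEquiv U X' Y).injective
        rw [Equiv.apply_symm_apply]
        obtain ⟨g, rfl⟩ := (clHomEquiv U X Y).surjective g
        rw [Equiv.symm_apply_apply]
        apply Sheaf.hom_ext
        show f.hom ≫ cmη U X.obj ≫ _ = cmη U X'.obj ≫ _
        simp only [Functor.FullyFaithful.homEquiv_apply]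
        rw [← Category.assoc, cmη_naturality, Category.assoc]
        exact congrArg (cmη U X'.obj ≫ ·)
          ((sheafificationAdjunction J (Type u)).homEquiv_naturality_left ((cm U).map f.hom)
            ((SGA4.closedCompl U).ι.map g)).symm
      homEquiv_naturality_right := fun {X Y Y'} f g => by
        apply Sheaf.hom_ext
        show cmη U X.obj ≫ _ = (cmη U X.obj ≫ _) ≫ g.hom.hom
        simp only [Functor.FullyFaithful.homEquiv_apply, Functor.map_comp]
        exact (congrArg (cmη U X.obj ≫ ·)
          ((sheafificationAdjunction J (Type u)).homEquiv_naturality_right _ _)).trans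
          (Category.assoc _ _ _).symm }

variable {U}

lemma preservesFiniteLimits_reflector (L : Sheaf J (Type u) ⥤ (SGA4.closedCompl U).FullSubcategory)
    (adj : L ⊣ (SGA4.closedCompl U).ι) : PreservesFiniteLimits L :=
  preservesFiniteLimits_of_natIso ((clAdj U).leftAdjointUniq adj)

/-- `star U` and a reflector into the closed complement are jointly conservative. -/
lemma isIso_of_open_closed (L : Sheaf J (Type u) ⥤ (SGA4.closedCompl U).FullSubcategory)
    (adj : L ⊣ (SGA4.closedCompl U).ι) {X Y : Sheaf J (Type u)} (m : X ⟶ Y)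
    (h₁ : IsIso ((Over.star U).map m)) (h₂ : IsIso (L.map m)) : IsIso m := by
  haveI : IsIso ((clFun U).map m) := (NatIso.isIso_map_iff ((clAdj U).leftAdjointUniq adj) m).2 h₂
  haveI : IsIso (prod.map (𝟙 U) m) := by
    have : IsIso ((Over.forget U).map ((Over.star U).map m)) := inferInstance
    simp at this
    exact this
  have hb : ∀ V, Nonempty (U.obj.obj V) → Function.Bijective (m.hom.app V) := by
    intro V ⟨u⟩
    have hp := (isIso_iff_app (prod.map (𝟙 U) m)).1 inferInstance V
    have e₁ : ∀ p, (prod.fst : U ⨯ Y ⟶ U).hom.app V ((prod.map (𝟙 U) m).hom.app V p) =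
        (prod.fst : U ⨯ X ⟶ U).hom.app V p := fun p =>
      ConcreteCategory.congr_hom (NatTrans.congr_app (congrArg (fun t => t.hom)
        (prod.map_fst (𝟙 U) m |>.trans (Category.comp_id _))) V) p
    have e₂ : ∀ p, (prod.snd : U ⨯ Y ⟶ Y).hom.app V ((prod.map (𝟙 U) m).hom.app V p) =
        m.hom.app V ((prod.snd : U ⨯ X ⟶ X).hom.app V p) := fun p =>
      ConcreteCategory.congr_hom (NatTrans.congr_app (congrArg (fun t => t.hom)
        (prod.map_snd (𝟙 U) m)) V) p
    refine ⟨fun a b e => ?_, fun y => ?_⟩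
    · obtain ⟨p, hp₁, rfl⟩ := exists_pair X u a
      obtain ⟨q, hq₁, rfl⟩ := exists_pair X u b
      rw [hp.1 (pair_ext Y ((e₁ p).trans (hp₁.trans (hq₁.symm.trans (e₁ q).symm)))
        ((e₂ p).trans (e.trans (e₂ q).symm)))]
    · obtain ⟨q, -, rfl⟩ := exists_pair Y u y
      obtain ⟨p, rfl⟩ := hp.2 q
      exact ⟨_, (e₂ p).symm⟩
  have hW : J.W ((cm U).map m.hom) := by
    rw [GrothendieckTopology.W_iff]
    exact inferInstanceAs (IsIso ((SGA4.closedCompl U).ι.map ((clFun U).map m)))
  rw [GrothendieckTopology.W_iff_isLocallyBijective] at hW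
  obtain ⟨hi, hs⟩ := hW
  refine (Sheaf.isLocallyBijective_iff_isIso m).1 ⟨⟨fun {V} a b e => ?_⟩, ⟨fun {V} y => ?_⟩⟩
  · refine J.superset_covering ?_ (Presheaf.equalizerSieve_mem J ((cm U).map m.hom)
      ((cmη U X.obj).app V a) ((cmη U X.obj).app V b) (funext fun _ => e))
    intro W f hf
    show X.obj.map f.op a = X.obj.map f.op b
    by_cases h : IsEmpty (U.obj.obj (op W))
    · exact congrFun hf h
    · refine (hb _ (not_isEmpty_iff.1 h)).1 ?_
      exact (ConcreteCategory.congr_hom (m.hom.naturality f.op) a).trans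
        ((congrArg (Y.obj.map f.op) e).trans (ConcreteCategory.congr_hom (m.hom.naturality f.op) b).symm)
  · refine J.superset_covering ?_ (Presheaf.imageSieve_mem J ((cm U).map m.hom)
      ((cmη U Y.obj).app (op V) y))
    rintro W f ⟨q, hq⟩
    by_cases h : IsEmpty (U.obj.obj (op W))
    · exact ⟨q h, congrFun hq h⟩
    · obtain ⟨x, hx⟩ := (hb _ (not_isEmpty_iff.1 h)).2 (Y.obj.map f.op y)
      exact ⟨x, hx⟩

/-- The structure map `U ⟶ cm X`. -/
def cmOpen (X : Cᵒᵖ ⥤ Type u) : U.obj ⟶ (cm U).obj X where
  app V := ↾fun u h => h.elim u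
  naturality V V' g := by
    ext u
    exact funext fun h => h.elim (U.obj.map g u)

variable (hU : SGA4.IsOpen U)
include hU

lemma isPushout_cl (X : Sheaf J (Type u)) :
    IsPushout (prod.fst : U ⨯ X ⟶ U) prod.snd
      (⟨cmOpen X.obj ≫ toSheafify J _⟩ : U ⟶ clObj U X) (clη U X) := by
  have hw : (prod.fst : U ⨯ X ⟶ U).hom ≫ cmOpen X.obj =
      (prod.snd : U ⨯ X ⟶ X).hom ≫ cmη U X.obj := by
    refine NatTrans.ext (funext fun V => ?_)
    ext p
    exact funext fun h => h.elim ((prod.fst : U ⨯ X ⟶ U).hom.app V p)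
  refine ⟨⟨Sheaf.hom_ext (((Category.assoc _ _ _).symm.trans (hw =≫ toSheafify J _)).trans
    (Category.assoc _ _ _))⟩, ⟨PushoutCocone.isColimitAux' _ fun s => ?_⟩⟩
  classical
  have hcompat : ∀ V (u : U.obj.obj V) (x : X.obj.obj V), s.inl.hom.app V u = s.inr.hom.app V x :=
    fun V u x => by
      obtain ⟨p, hp₁, hp₂⟩ := exists_pair X u x
      rw [← hp₁, ← hp₂]
      exact ConcreteCategory.congr_hom (NatTrans.congr_app (congrArg (fun t => t.hom) s.condition) V) p
  let l : (cm U).obj X.obj ⟶ s.pt.obj :=
    { app := fun V => ↾fun q => if h : IsEmpty (U.obj.obj V) then s.inr.hom.app V (q h)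
        else s.inl.hom.app V (not_isEmpty_iff.1 h).some
      naturality := fun V V' g => by
        ext q
        show (if h : _ then _ else _) = s.pt.obj.map g (if h : _ then _ else _)
        by_cases h : IsEmpty (U.obj.obj V')
        · have h' := res_isEmpty U g h
          rw [dif_pos h, dif_pos h']
          exact ConcreteCategory.congr_hom (s.inr.hom.naturality g) (q h')
        · rw [dif_neg h]
          by_cases h' : IsEmpty (U.obj.obj V)
          · rw [dif_pos h']
            exact (hcompat _ _ (X.obj.map g (q h'))).trans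
              (ConcreteCategory.congr_hom (s.inr.hom.naturality g) (q h'))
          · rw [dif_neg h']
            refine Eq.trans ?_ (ConcreteCategory.congr_hom (s.inl.hom.naturality g) _)
            exact congrArg (s.inl.hom.app V') ((subsingleton_open hU V').elim _ _) }
  have hl₁ : cmOpen X.obj ≫ l = s.inl.hom := by
    ext V u
    show (if h : _ then _ else _) = _
    split_ifs with h
    · exact h.elim u
    · exact congrArg (s.inl.hom.app V) ((subsingleton_open hU V).elim _ _)
  have hl₂ : cmη U X.obj ≫ l = s.inr.hom := by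
    ext V x
    show (if h : _ then _ else _) = _
    split_ifs with h
    · rfl
    · exact hcompat V _ x
  refine ⟨⟨sheafifyLift J l s.pt.property⟩, Sheaf.hom_ext ?_, Sheaf.hom_ext ?_, fun {m} h₁ h₂ =>
    Sheaf.hom_ext (sheafify_hom_ext J _ _ s.pt.property ?_)⟩
  · exact (Category.assoc _ _ _).trans ((congrArg _ (toSheafify_sheafifyLift J l s.pt.property)).trans hl₁)
  · exact (Category.assoc _ _ _).trans ((congrArg _ (toSheafify_sheafifyLift J l s.pt.property)).trans hl₂)
  · refine Eq.trans ?_ (toSheafify_sheafifyLift J l s.pt.property).symm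
    ext V q
    by_cases h : IsEmpty (U.obj.obj V)
    · rw [show q = (cmη U X.obj).app V (q h) from rfl]
      exact (ConcreteCategory.congr_hom (NatTrans.congr_app (congrArg (fun t => t.hom) h₂) V) (q h)).trans
        (ConcreteCategory.congr_hom (NatTrans.congr_app hl₂ V) (q h)).symm
    · obtain ⟨u⟩ := not_isEmpty_iff.1 h
      rw [show q = (cmOpen X.obj).app V u from funext fun h' => (h h').elim]
      exact (ConcreteCategory.congr_hom (NatTrans.congr_app (congrArg (fun t => t.hom) h₁) V) u).trans
        (ConcreteCategory.congr_hom (NatTrans.congr_app hl₁ V) u).symm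

end TopLib
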