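/-
Coproduct decompositions of sheafified representables.
-/
import Groth.Agent.TopLib.SheafGiraud

set_option autoImplicit false
set_option linter.style.haveILetI false
set_option linter.deprecated false

universe u

open CategoryTheory Limits Opposite

namespace TopLib

variable {C : Type u} [SmallCategory C] (J : GrothendieckTopology C)

/-- A sheafification is initial iff every section lives over an object covered by the empty sieve. -/
lemma isInitial_sheafify_iff (P : Cᵒᵖ ⥤ Type u) :
    Nonempty (IsInitial ((presheafToSheaf J (Type u)).obj P)) ↔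
      ∀ (X : C) (_ : P.obj (op X)), (⊥ : Sieve X) ∈ J X := by
  refine ⟨fun ⟨h⟩ X p => ?_, fun h => ?_⟩
  · let Z : Cᵒᵖ ⥤ Type u := (Functor.const _).obj PEmpty.{u + 1}
    let s : (sheafify J Z).obj (op X) :=
      (h.to ((presheafToSheaf J (Type u)).obj Z)).hom.app (op X) ((toSheafify J P).app (op X) p)
    refine J.superset_covering ?_ (Presheaf.imageSieve_mem J (toSheafify J Z) s)
    rintro Y f ⟨z, _⟩
    exact PEmpty.elim z
  · have key : ∀ (G : Sheaf J (Type u)) (a b : P ⟶ G.obj), a = b := fun G a b => by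
      ext X p
      exact (((isSheaf_iff_isSheaf_of_type J _).1 G.property) _ (h X.unop p)).isSeparatedFor.ext
        fun Y f hf => hf.elim
    have hex : ∀ (G : Sheaf J (Type u)), Nonempty (P ⟶ G.obj) := fun G => by
      have hs : ∀ X (p : P.obj X), ∃! _s : G.obj.obj X, True := fun X p => by
        obtain ⟨t, -, hu⟩ := ((isSheaf_iff_isSheaf_of_type J _).1 G.property) _ (h X.unop p)
          (fun Y f (hf : False) => hf.elim) (fun _ _ _ _ _ _ _ h₁ _ _ => h₁.elim)
        exact ⟨t, trivial, fun y _ => hu y fun Y f hf => hf.elim⟩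
      exact ⟨{
        app := fun X => ↾fun p => (hs X p).exists.choose
        naturality := fun X Y f => by
          ext p
          exact (hs Y (P.map f p)).unique trivial trivial }⟩
    let adj := sheafificationAdjunction J (Type u)
    exact ⟨IsInitial.ofUniqueHom (fun G => (adj.homEquiv _ _).symm (hex G).some)
      fun G m => (adj.homEquiv _ _).injective (key G _ _)⟩

variable {X : C} {ι : Type u} (Y : ι → C) (s : ∀ i, Y i ⟶ X)

/-- The sheafified family is a coproduct iff it is covering and locally disjointly monic. -/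
theorem isColimit_sheafify_iff :
    Nonempty (IsColimit (Cofan.mk ((presheafToSheaf J (Type u)).obj (yoneda.obj X))
      (fun i => (presheafToSheaf J (Type u)).map (yoneda.map (s i))))) ↔
    (Sieve.ofArrows Y s ∈ J X ∧
      (∀ i (W : C) (g h : W ⟶ Y i), g ≫ s i = h ≫ s i →
        ∃ S ∈ J W, ∀ ⦃V : C⦄ (u : V ⟶ W), S u → u ≫ g = u ≫ h) ∧
      ∀ i j, i ≠ j → ∀ (W : C) (g : W ⟶ Y i) (h : W ⟶ Y j), g ≫ s i = h ≫ s j →
        (⊥ : Sieve W) ∈ J W) := by
  let L := presheafToSheaf J (Type u)
  haveI : L.IsLeftAdjoint := ⟨_, ⟨sheafificationAdjunction J (Type u)⟩⟩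
  let c : Cofan fun i => yoneda.obj (Y i) := Cofan.mk _ (Sigma.ι fun i => yoneda.obj (Y i))
  let hc : IsColimit c := coproductIsCoproduct _
  let φ : c.pt ⟶ yoneda.obj X := Cofan.IsColimit.desc hc fun i => yoneda.map (s i)
  have hφ : ∀ i (W : Cᵒᵖ) (g : W.unop ⟶ Y i), φ.app W ((c.inj i).app W g) = g ≫ s i := fun i W g =>
    ConcreteCategory.congr_hom (NatTrans.congr_app
      (Cofan.IsColimit.fac hc (fun i => yoneda.map (s i)) i) W) g
  obtain ⟨hmono, hne⟩ := presheaf_disjoint hc
  have hcL := isColimitCofanMkObjOfIsColimit L _ c.inj hc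
  have h₁ : Nonempty (IsColimit (Cofan.mk (L.obj (yoneda.obj X))
      (fun i => L.map (yoneda.map (s i))))) ↔ IsIso (L.map φ) := by
    constructor
    · rintro ⟨h⟩
      rw [show L.map φ = (hcL.coconePointUniqueUpToIso h).hom from hcL.hom_ext fun j => by
        refine ((L.map_comp _ _).symm.trans ?_).trans (hcL.comp_coconePointUniqueUpToIso_hom h j).symm
        exact congrArg L.map (Cofan.IsColimit.fac hc _ j.as)]
      infer_instance
    · intro h
      exact ⟨hcL.ofIsoColimit (Cofan.ext (asIso (L.map φ)) fun i => (L.map_comp _ _).symm.trans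
        (congrArg L.map (Cofan.IsColimit.fac hc _ i)))⟩
  rw [h₁, ← J.W_iff φ, GrothendieckTopology.W_iff_isLocallyBijective]
  have key : ∀ (W : Cᵒᵖ) (x : c.pt.obj W), ∃ (i : ι) (g : W.unop ⟶ Y i), (c.inj i).app W g = x := by
    intro W x
    obtain ⟨i, g, hg⟩ := Types.jointly_surjective_of_isColimit
      (isColimitOfPreserves ((evaluation _ _).obj W) hc) x
    exact ⟨i.as, g, hg⟩
  have nat : ∀ i (W : Cᵒᵖ) (V : C) (u : V ⟶ W.unop) (g : W.unop ⟶ Y i),
      c.pt.map u.op ((c.inj i).app W g) = (c.inj i).app (op V) (u ≫ g) := fun i W V u g =>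
    (ConcreteCategory.congr_hom ((c.inj i).naturality u.op) g).symm
  constructor
  · rintro ⟨hi, hs⟩
    refine ⟨J.superset_covering ?_ (Presheaf.imageSieve_mem J φ (U := op X) (𝟙 X)), ?_, ?_⟩
    · rintro V f ⟨x, hx⟩
      obtain ⟨i, g, rfl⟩ := key _ x
      have : g ≫ s i = f := ((hφ i _ g).symm.trans hx).trans (Category.comp_id f)
      exact ⟨Y i, g, s i, ⟨i⟩, this⟩
    · intro i W g h e
      refine ⟨_, Presheaf.equalizerSieve_mem J φ ((c.inj i).app (op W) g) ((c.inj i).app (op W) h)
        (((hφ i _ g).trans e).trans (hφ i _ h).symm), fun V u hu => ?_⟩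
      haveI := hmono i
      exact (mono_iff_injective ((c.inj i).app (op V))).1 inferInstance
        ((nat i _ V u g).symm.trans (hu.trans (nat i _ V u h)))
    · intro i j hij W g h e
      refine J.superset_covering ?_ (Presheaf.equalizerSieve_mem J φ ((c.inj i).app (op W) g)
        ((c.inj j).app (op W) h) (((hφ i _ g).trans e).trans (hφ j _ h).symm))
      intro V u hu
      exact (hne hij (op V) (u ≫ g) (u ≫ h) ((nat i _ V u g).symm.trans (hu.trans (nat j _ V u h)))).elim
  · rintro ⟨hcov, hsame, hdisj⟩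
    refine ⟨⟨fun {W} a b e => ?_⟩, ⟨fun {W} f => ?_⟩⟩
    · obtain ⟨i, g, rfl⟩ := key W a
      obtain ⟨j, h, rfl⟩ := key W b
      have e' : g ≫ s i = h ≫ s j := ((hφ i W g).symm.trans e).trans (hφ j W h)
      rcases eq_or_ne i j with rfl | hij
      · obtain ⟨S, hS, hS'⟩ := hsame i _ g h e'
        refine J.superset_covering (fun V u hu => ?_) hS
        exact (nat i W V u g).trans ((congrArg ((c.inj i).app (op V)) (hS' u hu)).trans (nat i W V u h).symm)
      · exact J.superset_covering (fun V u (hu : False) => hu.elim) (hdisj i j hij _ g h e')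
    · refine J.superset_covering ?_ (J.pullback_stable f hcov)
      rintro V u ⟨_, a, _, ⟨i⟩, ha⟩
      exact ⟨(c.inj i).app (op V) a, (hφ i _ a).trans ha⟩

end TopLib
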