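/-
Giraud's theorem: every sheaf for the extremal topology is representable.
-/
import Groth.Agent.TopLib.GiraudTop
import Mathlib.CategoryTheory.Sites.EqualizerSheafCondition
import Mathlib.CategoryTheory.Sites.DenseSubsite.InducedTopology

set_option autoImplicit false
set_option linter.style.haveILetI false
set_option linter.deprecated false

universe v u

open CategoryTheory Limits Opposite

namespace TopLib

variable {E : Type v} [Category.{u} E] [HasFiniteLimits E]

namespace Gen

variable (gen : Gen E) (ax : Axioms E)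

include gen ax

lemma bot_mem_of_hom_empty {T : E} {c : Cofan (fun e : PEmpty.{u + 1} => (e.elim : E))}
    (hc : IsColimit c) (g : T ⟶ c.pt) : (⊥ : Sieve T) ∈ gen.topology ax T := by
  have h : (⊥ : Sieve c.pt) ∈ gen.topology ax c.pt := fun Z m hm _ =>
    extremal_of_isColimit hc m hm fun Y f hf => by
      obtain ⟨_, _, _, ⟨i⟩, -⟩ := hf
      exact i.elim
  exact (gen.topology ax).superset_covering (fun Y f hf => False.elim hf)
    ((gen.topology ax).pullback_stable g h)

/-- Two maps into different summands agreeing in the coproduct start at an object covered by the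
empty sieve. -/
lemma bot_mem_of_ne {ι : Type u} {A : ι → E} {c : Cofan A} (hc : IsColimit c) {T : E} {i j : ι}
    (hij : i ≠ j) (a : T ⟶ A i) (b : T ⟶ A j) (h : a ≫ c.inj i = b ≫ c.inj j) :
    (⊥ : Sieve T) ∈ gen.topology ax T := by
  haveI := ax.disjoint A
  obtain ⟨hI⟩ := CoproductDisjoint.nonempty_isInitial_of_ne hc hij _
    (pullback.isLimit (c.inj i) (c.inj j))
  obtain ⟨d, hd, -⟩ := ax.coprod PEmpty.{u + 1} fun e => e.elim
  exact gen.bot_mem_of_hom_empty ax hd (pullback.lift a b h ≫ hI.to d.pt)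

variable {F : Eᵒᵖ ⥤ Type u} (hF : Presieve.IsSheaf (gen.topology ax) F)

include hF

lemma subsingleton_of_bot {T : E} (h : (⊥ : Sieve T) ∈ gen.topology ax T) :
    Subsingleton (F.obj (op T)) :=
  ⟨fun s t => (hF _ h).isSeparatedFor.ext fun _ _ hf => hf.elim⟩

/-- Every sheaf for the extremal topology is representable. -/
theorem exists_repr : ∃ B : E, Nonempty (yoneda.obj B ≅ F) := by
  classical
  haveI := ax.hasCoproducts
  haveI := gen.subcanonical ax
  let τ := gen.topology ax
  let I : Type u := Σ k, F.obj (op (gen.obj k))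
  let cA := colimit.cocone (Discrete.functor fun i : I => gen.obj i.1)
  let hcA : IsColimit cA := colimit.isColimit _
  -- the tautological section over the coproduct
  have hA : Sieve.ofArrows _ (Cofan.inj cA) ∈ τ cA.pt := extremal_of_isColimit hcA
  have hsA := hF _ hA
  rw [Sieve.ofArrows, ← Presieve.isSheafFor_iff_generate, Presieve.isSheafFor_arrows_iff] at hsA
  obtain ⟨x, hx, -⟩ := hsA (fun i : I => i.2) (fun i j Z gi gj h => by
    rcases eq_or_ne i j with rfl | hij
    · haveI := ax.disjoint fun i : I => gen.obj i.1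
      haveI := CoproductDisjoint.mono_inj hcA i
      rw [(cancel_mono (Cofan.inj cA i)).1 h]
    · haveI := gen.subsingleton_of_bot ax hF (gen.bot_mem_of_ne ax hcA hij gi gj h)
      exact Subsingleton.elim _ _)
  -- the relation
  let J : Type u := Σ k, {ab : (gen.obj k ⟶ cA.pt) × (gen.obj k ⟶ cA.pt) //
    F.map ab.1.op x = F.map ab.2.op x}
  let cD := colimit.cocone (Discrete.functor fun j : J => gen.obj j.1)
  let hcD : IsColimit cD := colimit.isColimit _
  obtain ⟨R, q, r, hr, hqr, hq⟩ := ax.exists_image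
    (Cofan.IsColimit.desc hcD fun j => prod.lift j.2.1.1 j.2.1.2)
  have hqi : ∀ j : J, Cofan.inj cD j ≫ q ≫ r = prod.lift j.2.1.1 j.2.1.2 := fun j => by
    rw [hqr, Cofan.IsColimit.fac]
  let r₁ : R ⟶ cA.pt := r ≫ prod.fst
  let r₂ : R ⟶ cA.pt := r ≫ prod.snd
  have hR : F.map r₁.op x = F.map r₂.op x := by
    have hcov : Sieve.ofArrows _ (fun j => Cofan.inj cD j ≫ q) ∈ τ R := by
      intro Z m hm hf
      choose h hh using fun j => hf _ (Sieve.ofArrows_mk _ (fun j => Cofan.inj cD j ≫ q) j)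
      haveI := hq R (𝟙 R)
      haveI : EffectiveEpi q := by
        rw [show q = (IsPullback.id_horiz q).isoPullback.hom ≫ pullback.snd q (𝟙 R) from
          (IsPullback.id_horiz q).isoPullback_hom_snd.symm]
        infer_instance
      exact isIso_of_effectiveEpi_fac (π := q) (h := Cofan.IsColimit.desc hcD h)
        (Cofan.IsColimit.hom_ext hcD _ _ fun j => by simp [hh])
    refine (hF _ hcov).isSeparatedFor.ext fun Y f hf => ?_
    obtain ⟨_, a, _, ⟨j⟩, rfl⟩ := hf
    simp only [← FunctorToTypes.map_comp_apply, ← op_comp, r₁, r₂, Category.assoc,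
      reassoc_of% hqi, prod.lift_fst, prod.lift_snd]
    rw [op_comp, op_comp, FunctorToTypes.map_comp_apply, FunctorToTypes.map_comp_apply, j.2.2]
  have hfac : ∀ {T : E} (a b : T ⟶ cA.pt), F.map a.op x = F.map b.op x →
      ∃ h : T ⟶ R, h ≫ r₁ = a ∧ h ≫ r₂ = b := by
    intro T a b hab
    haveI : IsIso (pullback.snd r (prod.lift a b)) := gen.det _ inferInstance fun k g => by
      let j : J := ⟨k, (g ≫ a, g ≫ b), by
        simp only [op_comp, FunctorToTypes.map_comp_apply, hab]⟩
      exact ⟨pullback.lift (Cofan.inj cD j ≫ q) g (by rw [Category.assoc, hqi]; simp [j]),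
        pullback.lift_snd _ _ _⟩
    refine ⟨inv (pullback.snd r (prod.lift a b)) ≫ pullback.fst r (prod.lift a b), ?_, ?_⟩ <;>
      simp [r₁, r₂, pullback.condition_assoc, prod.lift_fst, prod.lift_snd]
  have hin : ∀ {T : E} (h : T ⟶ R), F.map (h ≫ r₁).op x = F.map (h ≫ r₂).op x := fun h => by
    simp only [op_comp, FunctorToTypes.map_comp_apply, hR]
  have hrel : SGA4.IsEquivRel r₁ r₂ := fun T => by
    refine ⟨fun f g h => (cancel_mono r).1 (prod.hom_ext ?_ ?_), fun a => hfac a a rfl, ?_, ?_⟩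
    · simpa [r₁] using congrArg Prod.fst h
    · simpa [r₂] using congrArg Prod.snd h
    · rintro a b ⟨f, rfl, rfl⟩
      exact hfac _ _ (hin f).symm
    · rintro a b c ⟨f, rfl, rfl⟩ ⟨g, hg, rfl⟩
      exact hfac _ _ ((hin f).trans ((congrArg (fun t => F.map (Quiver.Hom.op t) x) hg.symm).trans
        (hin g)))
  obtain ⟨B, π, hpb, hpo, hπ⟩ := ax.equiv _ _ _ _ hrel
  have hrB : ∀ {T : E} (a b : T ⟶ cA.pt), F.map a.op x = F.map b.op x → a ≫ π = b ≫ π := by
    intro T a b h
    obtain ⟨g, rfl, rfl⟩ := hfac a b h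
    simp only [Category.assoc, hpb.w]
  have hπcov : Sieve.ofArrows (fun _ : Unit => cA.pt) (fun _ => π) ∈ τ B := by
    intro Z m hm hf
    obtain ⟨h, hh⟩ := hf _ (Sieve.ofArrows_mk _ (fun _ : Unit => π) ())
    haveI := hπ B (𝟙 B)
    haveI : EffectiveEpi π := by
      rw [show π = (IsPullback.id_horiz π).isoPullback.hom ≫ pullback.snd π (𝟙 B) from
        (IsPullback.id_horiz π).isoPullback_hom_snd.symm]
      infer_instance
    exact isIso_of_effectiveEpi_fac hh
  have hsB := hF _ hπcov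
  rw [Sieve.ofArrows, ← Presieve.isSheafFor_iff_generate, Presieve.isSheafFor_arrows_iff] at hsB
  obtain ⟨b, hb, -⟩ := hsB (fun _ => x) (fun _ _ Z g₁ g₂ h => by
    obtain ⟨h₁, h₂⟩ : hpb.lift g₁ g₂ h ≫ r₁ = g₁ ∧ hpb.lift g₁ g₂ h ≫ r₂ = g₂ :=
      ⟨hpb.lift_fst _ _ _, hpb.lift_snd _ _ _⟩
    exact ((congrArg (fun t => F.map (Quiver.Hom.op t) x) h₁).symm.trans (hin _)).trans
      (congrArg (fun t => F.map (Quiver.Hom.op t) x) h₂))
  have hb' : F.map π.op b = x := hb ()
  have hinj : ∀ {T : E} (t₁ t₂ : T ⟶ B), F.map t₁.op b = F.map t₂.op b → t₁ = t₂ := by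
    intro T t₁ t₂ h
    refine gen.hom_ext_cover ax (τ.intersection_covering
      (τ.pullback_stable t₁ hπcov) (τ.pullback_stable t₂ hπcov)) fun Y f hf => ?_
    obtain ⟨⟨_, a₁, _, ⟨_⟩, h₁⟩, ⟨_, a₂, _, ⟨_⟩, h₂⟩⟩ := hf
    rw [← h₁, ← h₂]
    refine hrB _ _ ?_
    have := congrArg (F.map f.op) h
    simp only [← FunctorToTypes.map_comp_apply, ← op_comp, ← h₁, ← h₂] at this
    simpa only [op_comp, FunctorToTypes.map_comp_apply, hb'] using this
  have hsurj : ∀ {T : E} (s : F.obj (op T)), ∃ t : T ⟶ B, F.map t.op b = s := by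
    intro T s
    let S : Sieve T :=
      { arrows := fun Y f => ∃ t : Y ⟶ B, F.map t.op b = F.map f.op s
        downward_closed := by
          rintro Y Z f ⟨t, ht⟩ g
          exact ⟨g ≫ t, by simp only [op_comp, FunctorToTypes.map_comp_apply, ht]⟩ }
    have hS : S ∈ τ T := gen.extremal_of_gen S fun k g =>
      ⟨Cofan.inj cA (⟨k, F.map g.op s⟩ : I) ≫ π, by
        rw [op_comp, FunctorToTypes.map_comp_apply, hb']
        exact hx _⟩
    let fam : Presieve.FamilyOfElements (yoneda.obj B) S.arrows := fun Y f hf => hf.choose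
    have hfam : fam.Compatible := fun Y₁ Y₂ Z g₁ g₂ f₁ f₂ h₁ h₂ hg => hinj _ _ (by
      show F.map (g₁ ≫ h₁.choose).op b = F.map (g₂ ≫ h₂.choose).op b
      rw [op_comp, op_comp, FunctorToTypes.map_comp_apply, FunctorToTypes.map_comp_apply,
        h₁.choose_spec, h₂.choose_spec, ← FunctorToTypes.map_comp_apply,
        ← FunctorToTypes.map_comp_apply, ← op_comp, ← op_comp, hg])
    obtain ⟨t, ht, -⟩ := (GrothendieckTopology.Subcanonical.isSheaf_of_isRepresentable
      (J := τ) (yoneda.obj B)) S hS fam hfam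
    refine ⟨t, (hF S hS).isSeparatedFor.ext fun Y f hf => ?_⟩
    rw [← FunctorToTypes.map_comp_apply, ← op_comp, show f ≫ t = hf.choose from ht f hf]
    exact hf.choose_spec
  haveI : IsIso (yonedaEquiv.symm b : yoneda.obj B ⟶ F) := by
    rw [NatTrans.isIso_iff_isIso_app]
    intro T
    rw [isIso_iff_bijective]
    exact ⟨fun t₁ t₂ h => hinj t₁ t₂ h, fun s => hsurj s⟩
  exact ⟨B, ⟨asIso (yonedaEquiv.symm b : yoneda.obj B ⟶ F)⟩⟩

end Gen

/-- Giraud's theorem. -/
theorem isTopos_of_gen (ax : Axioms E) (gen : Gen E) : SGA4.IsTopos.{v, u} E := by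
  let τ := gen.topology ax
  haveI : τ.Subcanonical := gen.subcanonical ax
  let G : InducedCategory E gen.obj ⥤ E := inducedFunctor gen.obj
  haveI : G.IsCoverDense τ := ⟨fun X => gen.extremal_of_gen _ fun k g =>
    ⟨⟨k, 𝟙 _, g, Category.id_comp g⟩⟩⟩
  haveI : τ.yoneda.EssSurj := ⟨fun F => by
    obtain ⟨B, ⟨e⟩⟩ := gen.exists_repr ax ((isSheaf_iff_isSheaf_of_type _ _).1 F.property)
    exact ⟨B, ⟨(fullyFaithfulSheafToPresheaf τ _).preimageIso e⟩⟩⟩
  haveI : τ.yoneda.Faithful := (τ.yonedaFullyFaithful).faithful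
  haveI : τ.yoneda.IsEquivalence := { }
  exact ⟨InducedCategory E gen.obj, inferInstance, G.inducedTopology τ,
    ⟨τ.yoneda.asEquivalence.trans
      (Functor.IsDenseSubsite.sheafEquiv (G.inducedTopology τ) τ G (Type u)).symm⟩⟩

end TopLib
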