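/-
Sheaves for the canonical topology of a sheaf topos.
-/
import Groth.Agent.TopLib.LexAdjoint
import Mathlib.CategoryTheory.Limits.Yoneda
import Mathlib.CategoryTheory.Limits.Types.ColimitType

set_option autoImplicit false
set_option linter.style.haveILetI false
set_option linter.deprecated false
set_option linter.unusedSectionVars false

universe w u

open CategoryTheory Limits Opposite

namespace TopLib

variable {C : Type u} [SmallCategory C] {J : GrothendieckTopology C}

lemma extremal_of_epiFamily {ι : Type u} {A : ι → Sheaf J (Type u)} {X : Sheaf J (Type u)}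
    (g : ∀ i, A i ⟶ X) (h : SGA4.IsEpiFamily.{u, u + 1, u} g) : Extremal (Sieve.ofArrows A g) := by
  intro Z m hm hf
  choose k hk using fun i => hf (g i) (Sieve.ofArrows_mk A g i)
  haveI : Epi m := ⟨fun a b e => h _ a b fun i => by rw [← hk i, Category.assoc, Category.assoc, e]⟩
  exact isIso_of_mono_of_epi m

lemma extremal_of_canonical {X : Sheaf J (Type u)} {S : Sieve X}
    (hS : S ∈ Sheaf.canonicalTopology (Sheaf J (Type u)) X) : Extremal S := by
  intro Z m hm hf
  have hZ : Presieve.IsSheaf (Sheaf.canonicalTopology (Sheaf J (Type u))) (yoneda.obj Z) :=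
    GrothendieckTopology.Subcanonical.isSheaf_of_isRepresentable _
  have hX : Presieve.IsSheaf (Sheaf.canonicalTopology (Sheaf J (Type u))) (yoneda.obj X) :=
    GrothendieckTopology.Subcanonical.isSheaf_of_isRepresentable _
  choose h hh using hf
  obtain ⟨t, ht, -⟩ := hZ S hS (fun Y f hf => h f hf) fun Y₁ Y₂ W g₁ g₂ f₁ f₂ h₁ h₂ e =>
    (cancel_mono m).1 (by
      show (g₁ ≫ h f₁ h₁) ≫ m = (g₂ ≫ h f₂ h₂) ≫ m
      rw [Category.assoc, Category.assoc, hh, hh, e])
  have hs : t ≫ m = 𝟙 X := (hX S hS).isSeparatedFor.ext fun Y f hf => by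
    show f ≫ t ≫ m = f ≫ 𝟙 X
    rw [← Category.assoc, show f ≫ t = h f hf from ht f hf, hh, Category.comp_id]
  exact ⟨t, (cancel_mono m).1 (by rw [Category.assoc, hs, Category.comp_id, Category.id_comp]), hs⟩

lemma mem_canonical_of_extremal {X : Sheaf J (Type u)} {S : Sieve X} (hS : Extremal S) :
    S ∈ Sheaf.canonicalTopology (Sheaf J (Type u)) X := by
  obtain ⟨gen⟩ := sheaf_gen J
  haveI := gen.subcanonical (sheaf_axioms J)
  exact GrothendieckTopology.le_canonical (gen.topology (sheaf_axioms J)) X hS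

variable (P : (Sheaf J (Type u))ᵒᵖ ⥤ Type w)

lemma map_cancel (hP : Presieve.IsSheaf (Sheaf.canonicalTopology (Sheaf J (Type u))) P)
    {ι : Type u} {A : ι → Sheaf J (Type u)} {X : Sheaf J (Type u)} (g : ∀ i, A i ⟶ X)
    (h : SGA4.IsEpiFamily.{u, u + 1, u} g) {p q : P.obj (op X)}
    (e : ∀ i, P.map (g i).op p = P.map (g i).op q) : p = q := by
  refine (hP _ (mem_canonical_of_extremal (extremal_of_epiFamily g h))).isSeparatedFor.ext fun Y f hf => ?_
  obtain ⟨_, a, _, ⟨i⟩, rfl⟩ := hf
  simp only [op_comp, FunctorToTypes.map_comp_apply, e]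

/-- A sheaf for the canonical topology turns colimits into limits. -/
theorem preservesLimitsOfSize_of_sheaf
    (hP : Presieve.IsSheaf (Sheaf.canonicalTopology (Sheaf J (Type u))) P) :
    PreservesLimitsOfSize.{u, u} P := by
  constructor
  intro T _
  constructor
  intro D
  let G : Tᵒᵖ ⥤ Sheaf J (Type u) := D.leftOp
  let c := colimit.cocone G
  let hc : IsColimit c := colimit.isColimit G
  refine preservesLimit_of_preserves_limit_cone (isLimitConeOfCoconeLeftOp D hc) ?_
  refine ((Types.isLimit_iff _).2 fun s hs => ?_).some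
  let L := presheafToSheaf J (Type u)
  let adj := sheafificationAdjunction J (Type u)
  haveI : L.IsLeftAdjoint := ⟨_, ⟨adj⟩⟩
  let i := sheafToPresheaf J (Type u)
  let c₀ := colimit.cocone (G ⋙ i)
  let hc₀ : IsColimit c₀ := colimit.isColimit _
  let φ : c₀.pt ⟶ c.pt.obj := hc₀.desc (i.mapCocone c)
  haveI hφ : IsIso (L.map φ ≫ adj.counit.app c.pt) := by
    let e : G ⋙ i ⋙ L ≅ G := Functor.isoWhiskerLeft G (asIso adj.counit) ≪≫ G.rightUnitor
    have h₁ : IsColimit ((Cocone.precompose e.inv).obj (L.mapCocone c₀)) :=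
      (IsColimit.precomposeHomEquiv e.symm _).symm (isColimitOfPreserves L hc₀)
    rw [show L.map φ ≫ adj.counit.app c.pt = (h₁.coconePointUniqueUpToIso hc).hom from
      (isColimitOfPreserves L hc₀).hom_ext fun j => by
        have := h₁.comp_coconePointUniqueUpToIso_hom hc j
        simp only [Cocone.precompose_obj_ι, NatTrans.comp_app, Category.assoc] at this
        rw [Functor.mapCocone_ι_app] at this ⊢
        rw [← Category.assoc, ← L.map_comp, hc₀.fac]
        refine (adj.counit.naturality (c.ι.app j)).trans ?_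
        rw [← this]
        refine ((Category.assoc _ _ _).symm.trans ?_).trans (Category.id_comp _)
        refine congrArg (· ≫ _) ?_
        simp [e]]
    infer_instance
  have hW : J.W φ := (J.W_iff φ).2 (IsIso.of_isIso_comp_right (L.map φ) (adj.counit.app c.pt))
  rw [GrothendieckTopology.W_iff_isLocallyBijective] at hW
  haveI := hW.1
  have hlegs : SGA4.IsEpiFamily.{u, u + 1, max u u} (ι := Tᵒᵖ) fun j => c.ι.app j :=
    fun Z a b e => hc.hom_ext e
  have hcov := mem_canonical_of_extremal (extremal_of_epiFamily _ hlegs)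
  have hsh := hP _ hcov
  rw [Sieve.ofArrows, ← Presieve.isSheafFor_iff_generate, Presieve.isSheafFor_arrows_iff] at hsh
  obtain ⟨x, hx, hu⟩ := hsh (fun j => s j.unop) fun k l T' a b e => by
    -- test on representables
    refine map_cancel P hP (ι := Σ V : C, T'.obj.obj (op V))
      (fun i => (adj.homEquiv _ _).symm (yonedaEquiv.symm i.2)) (fun Z p q h => ?_) fun ⟨V, t⟩ => ?_
    · refine Sheaf.hom_ext ?_
      ext ⟨V⟩ t
      have := congrArg (fun m => yonedaEquiv (adj.homEquiv _ _ m)) (h ⟨V, t⟩)
      simp only [Adjunction.homEquiv_naturality_right, Equiv.apply_symm_apply] at this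
      simpa [yonedaEquiv_comp] using this
    let tl : ∀ (V : C) (Y : Sheaf J (Type u)), Y.obj.obj (op V) → (L.obj (yoneda.obj V) ⟶ Y) :=
      fun V Y y => (adj.homEquiv _ _).symm (yonedaEquiv.symm y)
    have tl_res : ∀ {V V' : C} (g : V' ⟶ V) (Y : Sheaf J (Type u)) (y : Y.obj.obj (op V)),
        L.map (yoneda.map g) ≫ tl V Y y = tl V' Y (Y.obj.map g.op y) := fun g Y y => by
      simp only [tl, ← Adjunction.homEquiv_naturality_left_symm, yonedaEquiv_symm_naturality_left]
      rfl
    have tl_comp : ∀ {V : C} {Y Y' : Sheaf J (Type u)} (h : Y ⟶ Y') (y : Y.obj.obj (op V)),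
        tl V Y y ≫ h = tl V Y' (h.hom.app _ y) := fun h y => by
      simp only [tl, ← Adjunction.homEquiv_naturality_right_symm]
      exact congrArg (adj.homEquiv _ _).symm (yonedaEquiv_symm_naturality_right _ _ _)
    show P.map (tl V T' t).op (P.map a.op _) = P.map (tl V T' t).op (P.map b.op _)
    rw [← FunctorToTypes.map_comp_apply, ← FunctorToTypes.map_comp_apply, ← op_comp, ← op_comp,
      tl_comp a t, tl_comp b t]
    let α := a.hom.app (op V) t
    let β := b.hom.app (op V) t
    have hφι : ∀ (m : Tᵒᵖ) (W : Cᵒᵖ) (z : (G.obj m).obj.obj W),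
        φ.app W ((c₀.ι.app m).app W z) = (c.ι.app m).hom.app W z := fun m W z =>
      ConcreteCategory.congr_hom (NatTrans.congr_app (hc₀.fac (i.mapCocone c) m) W) z
    have eq : φ.app (op V) ((c₀.ι.app k).app (op V) α) = φ.app (op V) ((c₀.ι.app l).app (op V) β) := by
      rw [hφι, hφι]
      exact ConcreteCategory.congr_hom (NatTrans.congr_app (congrArg (fun m => m.hom) e) (op V)) t
    refine map_cancel P hP _ (epiFamily_cover _ (Presheaf.equalizerSieve_mem J φ _ _ eq))
      fun ⟨V', g, hg⟩ => ?_
    dsimp only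
    rw [← FunctorToTypes.map_comp_apply, ← FunctorToTypes.map_comp_apply, ← op_comp, ← op_comp,
      tl_res, tl_res]
    have hev := (Types.isColimit_iff_coconeTypesIsColimit _).1
      ⟨isColimitOfPreserves ((evaluation Cᵒᵖ (Type u)).obj (op V')) hc₀⟩
    let N : ((G ⋙ i) ⋙ (evaluation Cᵒᵖ (Type u)).obj (op V')).CoconeTypes :=
      { pt := P.obj (op (L.obj (yoneda.obj V')))
        ι := fun m z => P.map (tl V' (G.obj m) z).op (s m.unop)
        ι_naturality := fun {m n} h => by
          funext z
          show P.map (tl V' (G.obj n) ((G.map h).hom.app _ z)).op (s n.unop) = _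
          rw [← tl_comp (G.map h) z, op_comp, FunctorToTypes.map_comp_apply]
          exact congrArg _ (hs h.unop) }
    have hk : (c₀.ι.app k).app (op V') ((G.obj k).obj.map g.op α) =
        (c₀.ι.app l).app (op V') ((G.obj l).obj.map g.op β) :=
      (ConcreteCategory.congr_hom ((c₀.ι.app k).naturality g.op) α).trans
        (hg.trans (ConcreteCategory.congr_hom ((c₀.ι.app l).naturality g.op) β).symm)
    exact (hev.fac_apply N k _).symm.trans ((congrArg (hev.desc N) hk).trans (hev.fac_apply N l _))
  refine ⟨x, fun j => hx (op j), fun y hy => hu y fun j => hy j.unop⟩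

variable [PreservesLimitsOfSize.{u, u} P]

lemma map_injective_of_extremal {X : Sheaf J (Type u)} {S : Sieve X} (hS : Extremal S)
    {p q : P.obj (op X)} (e : ∀ ⦃Y⦄ (f : Y ⟶ X), S f → P.map f.op p = P.map f.op q) : p = q := by
  obtain ⟨gen⟩ := sheaf_gen J
  haveI := (sheaf_axioms J).hasCoproducts
  let c : Cofan fun i : gen.Idx S => gen.obj i.1 := Cofan.mk _ (Sigma.ι fun i : gen.Idx S => gen.obj i.1)
  let hc : IsColimit c := coproductIsCoproduct _
  let π : c.pt ⟶ X := Cofan.IsColimit.desc hc fun i => i.2.1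
  haveI : EffectiveEpi π := (sheaf_axioms J).effectiveEpi_of_extremal _ (gen.extremal_small hS) hc
    (IsPullback.id_horiz π)
  haveI := preservesLimitsOfSize_shrink.{0, u, 0, u} P
  have hcq := isColimitCoforkOfEffectiveEpi π _ (IsPullback.of_hasPullback π π).isLimit
  have hl := isLimitOfPreserves P hcq.op
  have hprod := isLimitOfPreserves P hc.op
  have hπ : P.map π.op p = P.map π.op q := by
    refine (Types.isLimit_iff _).1 ⟨hprod⟩ (fun i => P.map (c.inj i.unop.as).op (P.map π.op q))
      (fun {i j} f => ?_) |>.unique (fun i => ?_) (fun i => rfl)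
    · obtain ⟨i⟩ := i
      obtain ⟨j⟩ := j
      obtain ⟨i⟩ := i
      obtain ⟨j⟩ := j
      obtain rfl : j = i := Discrete.eq_of_hom f.unop
      obtain rfl : f = 𝟙 _ := Subsingleton.elim _ _
      simp
    · show P.map (c.inj i.unop.as).op (P.map π.op p) = P.map (c.inj i.unop.as).op (P.map π.op q)
      rw [← FunctorToTypes.map_comp_apply, ← FunctorToTypes.map_comp_apply, ← op_comp,
        show c.inj i.unop.as ≫ π = i.unop.as.2.1 from Cofan.IsColimit.fac hc _ _]
      exact e _ i.unop.as.2.2
  refine ((Types.isLimit_iff _).1 ⟨hl⟩ (fun j => (P.mapCone (Cocone.op (Cofork.ofπ π pullback.condition))).π.app j q)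
    (fun {j k} f => ConcreteCategory.congr_hom ((P.mapCone (Cocone.op (Cofork.ofπ π pullback.condition))).w f) q)).unique
      (fun j => ?_) (fun j => rfl)
  obtain ⟨_ | _⟩ := j
  · show P.map (pullback.fst π π ≫ π).op p = P.map (pullback.fst π π ≫ π).op q
    rw [op_comp, FunctorToTypes.map_comp_apply, FunctorToTypes.map_comp_apply, hπ]
  · exact hπ

/-- A functor turning colimits into limits is a sheaf for the canonical topology. -/
theorem isSheaf_of_preservesLimitsOfSize :
    Presieve.IsSheaf (Sheaf.canonicalTopology (Sheaf J (Type u))) P := by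
  intro X S hS x hx
  obtain ⟨gen⟩ := sheaf_gen J
  have ax := sheaf_axioms J
  have hE := extremal_of_canonical hS
  haveI := ax.hasCoproducts
  let c : Cofan fun i : gen.Idx S => gen.obj i.1 := Cofan.mk _ (Sigma.ι fun i : gen.Idx S => gen.obj i.1)
  let hc : IsColimit c := coproductIsCoproduct _
  let π : c.pt ⟶ X := Cofan.IsColimit.desc hc fun i => i.2.1
  have hfac : ∀ i, c.inj i ≫ π = i.2.1 := fun i => Cofan.IsColimit.fac hc _ _
  haveI : EffectiveEpi π := ax.effectiveEpi_of_extremal _ (gen.extremal_small hE) hc (IsPullback.id_horiz π)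
  haveI := preservesLimitsOfSize_shrink.{0, u, 0, u} P
  have hcq := isColimitCoforkOfEffectiveEpi π _ (IsPullback.of_hasPullback π π).isLimit
  have hl := isLimitOfPreserves P hcq.op
  have hprod := isLimitOfPreserves P hc.op
  obtain ⟨y, hy, -⟩ := (Types.isLimit_iff _).1 ⟨hprod⟩
    (fun i => x i.unop.as.2.1 i.unop.as.2.2) (fun {i j} f => by
      obtain ⟨i⟩ := i
      obtain ⟨j⟩ := j
      obtain ⟨i⟩ := i
      obtain ⟨j⟩ := j
      obtain rfl : j = i := Discrete.eq_of_hom f.unop
      obtain rfl : f = 𝟙 _ := Subsingleton.elim _ _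
      simp)
  have hy' : ∀ i : gen.Idx S, P.map (c.inj i).op y = x i.2.1 i.2.2 := fun i => hy (op ⟨i⟩)
  have hkey : P.map (pullback.fst π π).op y = P.map (pullback.snd π π).op y := by
    have hcov : Sieve.ofArrows _ (Cofan.inj c) ∈ gen.topology ax c.pt := extremal_of_isColimit hc
    refine map_injective_of_extremal P ((gen.topology ax).intersection_covering
      ((gen.topology ax).pullback_stable (pullback.fst π π) hcov)
      ((gen.topology ax).pullback_stable (pullback.snd π π) hcov)) fun Y k hk => ?_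
    obtain ⟨⟨_, a, _, ⟨i⟩, ha⟩, ⟨_, b, _, ⟨j⟩, hb⟩⟩ := hk
    rw [← FunctorToTypes.map_comp_apply, ← FunctorToTypes.map_comp_apply, ← op_comp, ← op_comp, ← ha,
      ← hb, op_comp, op_comp, FunctorToTypes.map_comp_apply, FunctorToTypes.map_comp_apply, hy', hy']
    refine hx a b i.2.2 j.2.2 ?_
    rw [← hfac i, ← hfac j, ← Category.assoc, ← Category.assoc, ha, hb, Category.assoc, Category.assoc,
      pullback.condition]
  let sec : ∀ j : WalkingParallelPairᵒᵖ,
      ((parallelPair (pullback.fst π π) (pullback.snd π π)).op ⋙ P).obj j := fun j =>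
    match j with
    | ⟨.zero⟩ => P.map (pullback.fst π π).op y
    | ⟨.one⟩ => y
  obtain ⟨t, ht, -⟩ := (Types.isLimit_iff _).1 ⟨hl⟩ sec (fun {j k} f => by
    obtain ⟨j⟩ := j
    obtain ⟨k⟩ := k
    obtain ⟨g, rfl⟩ : ∃ g : k ⟶ j, g.op = f := ⟨f.unop, rfl⟩
    cases g with
    | left => rfl
    | right => exact hkey.symm
    | id =>
      show P.map ((parallelPair (pullback.fst π π) (pullback.snd π π)).map (𝟙 j)).op (sec ⟨j⟩) = sec ⟨j⟩
      simp)
  have htπ : P.map π.op t = y := ht (op WalkingParallelPair.one)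
  refine ⟨t, fun Y f hf => ?_, fun t' ht' => map_injective_of_extremal P hE fun Y f hf => ?_⟩
  · refine map_injective_of_extremal P
      (gen.extremal_pullback ax (gen.extremal_small hE) f) fun Z a ha => ?_
    obtain ⟨_, b, _, ⟨i⟩, hb⟩ := ha
    rw [← FunctorToTypes.map_comp_apply, ← op_comp, ← hb, op_comp, FunctorToTypes.map_comp_apply,
      ← hfac i, op_comp, FunctorToTypes.map_comp_apply, htπ, hy']
    exact hx b a i.2.2 hf hb
  · rw [ht' f hf]
    refine map_injective_of_extremal P
      (gen.extremal_pullback ax (gen.extremal_small hE) f) fun Z a ha => ?_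
    obtain ⟨_, b, _, ⟨i⟩, hb⟩ := ha
    rw [← FunctorToTypes.map_comp_apply P f.op a.op t, ← op_comp, ← hb, op_comp,
      FunctorToTypes.map_comp_apply, ← hfac i, op_comp, FunctorToTypes.map_comp_apply, htπ, hy']
    exact (hx b a i.2.2 hf hb).symm

end TopLib
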