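/-
Gluing an open and a closed subtopos.
-/
import Mathlib.CategoryTheory.Comma.Basic
import Mathlib.CategoryTheory.Limits.Preserves.Shapes.Pullbacks
import Mathlib.CategoryTheory.Limits.Shapes.Pullback.IsPullback.Basic
import Mathlib.CategoryTheory.Adjunction.FullyFaithful

set_option autoImplicit false
set_option linter.style.haveILetI false

universe v₁ v₂ v₃ u₁ u₂ u₃

open CategoryTheory Limits

namespace TopLib

variable {E : Type u₁} [Category.{v₁} E] {F : Type u₂} [Category.{v₂} F] {O : Type u₃}
  [Category.{v₃} O] [HasPullbacks E]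
  {L : E ⥤ F} {i : F ⥤ E} (adj : L ⊣ i) {S : E ⥤ O} {R : O ⥤ E} (adj' : S ⊣ R)

/-- The comparison functor to the glued category. -/
@[simps]
def glueFun : E ⥤ Comma (𝟭 F) (R ⋙ L) where
  obj X := { left := L.obj X, right := S.obj X, hom := L.map (adj'.unit.app X) }
  map f :=
    { left := L.map f
      right := S.map f
      w := (L.map_comp _ _).symm.trans
        ((congrArg L.map (adj'.unit.naturality f)).trans (L.map_comp _ _)) }
  map_id X := CommaMorphism.ext (L.map_id X) (S.map_id X)
  map_comp f g := CommaMorphism.ext (L.map_comp f g) (S.map_comp f g)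

variable [i.Full] [i.Faithful] [R.Full] [R.Faithful]
  [PreservesLimitsOfShape WalkingCospan L] [PreservesLimitsOfShape WalkingCospan S]
  (hS : ∀ {Y Y' : F} (g : Y ⟶ Y'), IsIso (S.map (i.map g)))
  (hc : ∀ {X Y : E} (m : X ⟶ Y), IsIso (S.map m) → IsIso (L.map m) → IsIso m)

include adj adj' hS hc

lemma isPullback_units (X : E) :
    IsPullback (adj.unit.app X) (adj'.unit.app X) (i.map (L.map (adj'.unit.app X)))
      (adj.unit.app (R.obj (S.obj X))) := by
  let a := i.map (L.map (adj'.unit.app X))
  let b := adj.unit.app (R.obj (S.obj X))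
  let c : X ⟶ pullback a b :=
    pullback.lift (adj.unit.app X) (adj'.unit.app X) (adj.unit.naturality (adj'.unit.app X)).symm
  haveI hb : IsIso (L.map b) := inferInstance
  haveI ha : IsIso (S.map a) := hS _
  have hP := (IsPullback.of_hasPullback a b)
  haveI : IsIso (L.map (pullback.fst a b)) := (hP.map L).isIso_fst_of_isIso
  haveI : IsIso (S.map (pullback.snd a b)) := (hP.map S).isIso_snd_of_isIso
  haveI : IsIso c := hc c
    (IsIso.of_isIso_fac_right (g := S.map c) (f := S.map (pullback.snd a b))
      (h := S.map (adj'.unit.app X))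
      ((S.map_comp _ _).symm.trans (congrArg S.map (pullback.lift_snd _ _ _))))
    (IsIso.of_isIso_fac_right (g := L.map c) (f := L.map (pullback.fst a b))
      (h := L.map (adj.unit.app X))
      ((L.map_comp _ _).symm.trans (congrArg L.map (pullback.lift_fst _ _ _))))
  exact IsPullback.of_iso_pullback ⟨(adj.unit.naturality (adj'.unit.app X)).symm⟩ (asIso c)
    (pullback.lift_fst _ _ _) (pullback.lift_snd _ _ _)

theorem glueFun_isEquivalence : (glueFun (L := L) adj').IsEquivalence := by
  have key := fun X => isPullback_units adj adj' hS hc X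
  haveI : (glueFun (L := L) adj').Faithful := ⟨fun {X X'} f g h => by
    refine (key X').hom_ext ?_ ?_
    · exact (adj.unit.naturality f).trans ((congrArg (adj.unit.app X ≫ i.map ·)
        (congrArg CommaMorphism.left h)).trans (adj.unit.naturality g).symm)
    · exact (adj'.unit.naturality f).trans ((congrArg (adj'.unit.app X ≫ R.map ·)
        (congrArg CommaMorphism.right h)).trans (adj'.unit.naturality g).symm)⟩
  haveI : (glueFun (L := L) adj').Full := ⟨fun {X X'} q => by
    have w : q.left ≫ L.map (adj'.unit.app X') = L.map (adj'.unit.app X) ≫ L.map (R.map q.right) := q.w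
    refine ⟨(key X').lift (adj.unit.app X ≫ i.map q.left) (adj'.unit.app X ≫ R.map q.right) ?_, ?_⟩
    · have nat : (adj'.unit.app X ≫ R.map q.right) ≫ adj.unit.app (R.obj (S.obj X')) =
          adj.unit.app X ≫ i.map (L.map (adj'.unit.app X ≫ R.map q.right)) :=
        adj.unit.naturality (adj'.unit.app X ≫ R.map q.right)
      exact ((Category.assoc _ _ _).trans (congrArg (adj.unit.app X ≫ ·) ((i.map_comp _ _).symm.trans
        (congrArg i.map (w.trans (L.map_comp _ _).symm))))).trans nat.symm
    · apply CommaMorphism.ext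
      · refine (adj.homEquiv _ _).injective ?_
        rw [Adjunction.homEquiv_unit, Adjunction.homEquiv_unit]
        exact (adj.unit.naturality _).symm.trans ((key X').lift_fst _ _ _)
      · refine (adj'.homEquiv _ _).injective ?_
        rw [Adjunction.homEquiv_unit, Adjunction.homEquiv_unit]
        exact (adj'.unit.naturality _).symm.trans ((key X').lift_snd _ _ _)⟩
  haveI : (glueFun (L := L) adj').EssSurj := ⟨fun Z => by
    let a := i.map Z.hom
    let b := adj.unit.app (R.obj Z.right)
    have hP := IsPullback.of_hasPullback a b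
    haveI hb : IsIso (L.map b) := inferInstance
    haveI ha : IsIso (S.map a) := hS _
    haveI : IsIso (L.map (pullback.fst a b)) := (hP.map L).isIso_fst_of_isIso
    haveI : IsIso (S.map (pullback.snd a b)) := (hP.map S).isIso_snd_of_isIso
    let l : L.obj (pullback a b) ⟶ Z.left := L.map (pullback.fst a b) ≫ adj.counit.app Z.left
    let r : S.obj (pullback a b) ⟶ Z.right := S.map (pullback.snd a b) ≫ adj'.counit.app Z.right
    have hl : IsIso l := inferInstanceAs (IsIso (L.map (pullback.fst a b) ≫ adj.counit.app Z.left))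
    have hr : IsIso r := inferInstanceAs (IsIso (S.map (pullback.snd a b) ≫ adj'.counit.app Z.right))
    refine ⟨pullback a b, ⟨Comma.isoMk (@asIso _ _ _ _ l hl) (@asIso _ _ _ _ r hr) ?_⟩⟩
    show l ≫ Z.hom = L.map (adj'.unit.app _) ≫ L.map (R.map r)
    have hu : adj'.unit.app _ ≫ R.map r = pullback.snd a b :=
      ((adj'.homEquiv_unit _ _ _).symm.trans (congrArg (adj'.homEquiv _ _)
        (adj'.homEquiv_counit _ _ _).symm)).trans (Equiv.apply_symm_apply _ _)
    refine Eq.trans ?_ ((congrArg L.map hu).symm.trans (L.map_comp _ _))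
    have e₁ := congrArg (L.map · ≫ adj.counit.app _) hP.w
    simp only [Functor.map_comp, Category.assoc] at e₁
    rw [show L.map a ≫ adj.counit.app _ = adj.counit.app Z.left ≫ Z.hom from adj.counit.naturality Z.hom] at e₁
    exact (Category.assoc _ _ _).trans (e₁.trans ((congrArg (L.map (pullback.snd a b) ≫ ·)
      (adj.left_triangle_components (R.obj Z.right))).trans (Category.comp_id _)))⟩
  exact { }

end TopLib
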