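/-
Giraud's axioms for glued categories.
-/
import Groth.Agent.TopLib.GiraudTop
import Mathlib.CategoryTheory.Limits.Comma
import Mathlib.CategoryTheory.Limits.Preserves.Shapes.BinaryProducts

set_option autoImplicit false
set_option linter.style.haveILetI false
set_option linter.unusedSectionVars false
set_option linter.unusedVariables false

universe v₁ v₂ v u

open CategoryTheory Limits Opposite

namespace TopLib

section rel

variable {E : Type v₁} [Category.{u} E] [HasFiniteLimits E] {E' : Type v₂} [Category.{u} E']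
  [HasFiniteLimits E'] {R A : E} {p₁ p₂ : R ⟶ A}

/-- Left exact functors preserve equivalence relations. -/
lemma isEquivRel_map (h : SGA4.IsEquivRel p₁ p₂) (F : E ⥤ E') [PreservesFiniteLimits F] :
    SGA4.IsEquivRel (F.map p₁) (F.map p₂) := by
  haveI hm : Mono (prod.lift p₁ p₂) := ⟨fun f g e => (h _).1 (Prod.ext
    (by simpa [prod.lift_fst] using e =≫ prod.fst) (by simpa [prod.lift_snd] using e =≫ prod.snd))⟩
  haveI : Mono (prod.lift (F.map p₁) (F.map p₂)) := by
    have : prod.lift (F.map p₁) (F.map p₂) = F.map (prod.lift p₁ p₂) ≫ prodComparison F A A := by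
      ext <;> simp [prod.lift_fst, prod.lift_snd, ← Functor.map_comp]
    rw [this]
    infer_instance
  intro T
  refine ⟨fun f g e => (cancel_mono (prod.lift (F.map p₁) (F.map p₂))).1 (prod.hom_ext
      (by simpa [prod.lift_fst] using congrArg Prod.fst e)
      (by simpa [prod.lift_snd] using congrArg Prod.snd e)), fun a => ?_, ?_, ?_⟩
  · obtain ⟨r, h₁, h₂⟩ := (h A).2.refl (𝟙 A)
    exact ⟨a ≫ F.map r, by simp [← Functor.map_comp, h₁], by simp [← Functor.map_comp, h₂]⟩
  · rintro a b ⟨f, rfl, rfl⟩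
    obtain ⟨s, h₁, h₂⟩ := (h R).2.symm ⟨𝟙 R, Category.id_comp p₁, Category.id_comp p₂⟩
    exact ⟨f ≫ F.map s, by simp [← Functor.map_comp, h₁], by simp [← Functor.map_comp, h₂]⟩
  · rintro a b c ⟨f, rfl, rfl⟩ ⟨g, hg, rfl⟩
    obtain ⟨t, h₁, h₂⟩ := (h _).2.trans
      ⟨pullback.fst p₂ p₁, rfl, rfl⟩
      ⟨pullback.snd p₂ p₁, (pullback.condition (f := p₂) (g := p₁)).symm, rfl⟩
    have hpb := (IsPullback.of_hasPullback p₂ p₁).map F
    refine ⟨hpb.lift f g hg.symm ≫ F.map t, ?_, ?_⟩
    · rw [Category.assoc, ← Functor.map_comp, h₁, Functor.map_comp, hpb.lift_fst_assoc]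
    · rw [Category.assoc, ← Functor.map_comp, h₂, Functor.map_comp, hpb.lift_snd_assoc]

end rel

variable {A : Type v₁} [Category.{u} A] [HasFiniteLimits A] {B : Type v₂} [Category.{u} B]
  [HasFiniteLimits B] (ρ : B ⥤ A) [PreservesFiniteLimits ρ]

local notation "Glue" => Comma (𝟭 A) ρ

instance : HasFiniteLimits Glue := Comma.hasFiniteLimits

instance fst_preservesFiniteLimits : PreservesFiniteLimits (Comma.fst (𝟭 A) ρ) where
  preservesFiniteLimits J _ _ := ⟨fun {F} =>
    preservesLimit_of_preserves_limit_cone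
      (Comma.coneOfPreservesIsLimit F (limit.isLimit _) (limit.isLimit _)) (limit.isLimit _)⟩

instance snd_preservesFiniteLimits : PreservesFiniteLimits (Comma.snd (𝟭 A) ρ) where
  preservesFiniteLimits J _ _ := ⟨fun {F} =>
    preservesLimit_of_preserves_limit_cone
      (Comma.coneOfPreservesIsLimit F (limit.isLimit _) (limit.isLimit _)) (limit.isLimit _)⟩

variable {ρ}

lemma glue_mono {X Y : Glue} (f : X ⟶ Y) [Mono f.left] [Mono f.right] : Mono f :=
  ⟨fun g h e => CommaMorphism.ext ((cancel_mono f.left).1 (congrArg CommaMorphism.left e))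
    ((cancel_mono f.right).1 (congrArg CommaMorphism.right e))⟩

lemma glue_isPullback {P X Y Z : Glue} {fst : P ⟶ X} {snd : P ⟶ Y} {f : X ⟶ Z} {g : Y ⟶ Z}
    (h₁ : IsPullback fst.left snd.left f.left g.left)
    (h₂ : IsPullback fst.right snd.right f.right g.right) : IsPullback fst snd f g := by
  have w : fst ≫ f = snd ≫ g := CommaMorphism.ext h₁.w h₂.w
  refine ⟨⟨w⟩, ⟨Comma.fstSndJointlyReflectLimit ?_ ?_⟩⟩
  · exact (isLimitMapConePullbackConeEquiv (Comma.fst (𝟭 A) ρ) w).symm h₁.isLimit
  · exact (isLimitMapConePullbackConeEquiv (Comma.snd (𝟭 A) ρ) w).symm h₂.isLimit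

lemma glue_isPushout {P X Y Z : Glue} {f : P ⟶ X} {g : P ⟶ Y} {inl : X ⟶ Z} {inr : Y ⟶ Z}
    (h₁ : IsPushout f.left g.left inl.left inr.left)
    (h₂ : IsPushout f.right g.right inl.right inr.right) : IsPushout f g inl inr := by
  have w : f ≫ inl = g ≫ inr := CommaMorphism.ext h₁.w h₂.w
  refine ⟨⟨w⟩, ⟨Comma.fstSndJointlyReflectColimit ?_ ?_⟩⟩
  · exact (isColimitMapCoconePushoutCoconeEquiv (Comma.fst (𝟭 A) ρ) w).symm h₁.isColimit
  · exact (isColimitMapCoconePushoutCoconeEquiv (Comma.snd (𝟭 A) ρ) w).symm h₂.isColimit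

variable (axA : Axioms A) (axB : Axioms B)

include axA axB

lemma glue_coproducts : SGA4.HasDisjointUniversalCoproducts.{max u v₁ v₂, u} Glue := by
  intro ι X
  haveI := axA.hasCoproducts
  haveI := axB.hasCoproducts
  let F : Discrete ι ⥤ Glue := Discrete.functor X
  let c : Cofan X := colimit.cocone F
  have hc : IsColimit c := colimit.isColimit F
  let cA : Cofan fun i => (X i).left := Cofan.mk c.pt.left fun i => (c.inj i).left
  let cB : Cofan fun i => (X i).right := Cofan.mk c.pt.right fun i => (c.inj i).right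
  have hA : IsColimit cA := isColimitCofanMkObjOfIsColimit (Comma.fst (𝟭 A) ρ) X c.inj
    (hc.ofIsoColimit (Cocone.ext (Iso.refl _) fun i => by simp [Cofan.inj]))
  have hB : IsColimit cB := isColimitCofanMkObjOfIsColimit (Comma.snd (𝟭 A) ρ) X c.inj
    (hc.ofIsoColimit (Cocone.ext (Iso.refl _) fun i => by simp [Cofan.inj]))
  haveI := axA.disjoint fun i => (X i).left
  haveI := axB.disjoint fun i => (X i).right
  haveI : ∀ i, Mono (c.inj i) := fun i => by
    haveI : Mono (c.inj i).left := CoproductDisjoint.mono_inj hA i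
    haveI : Mono (c.inj i).right := CoproductDisjoint.mono_inj hB i
    exact glue_mono _
  refine ⟨c, hc, CoproductDisjoint.of_cofan hc
    (fun {i j} _ => pullback.cone (c.inj i) (c.inj j)) (fun _ => pullback.isLimit _ _)
    (fun {i j} hij => ?_), ?_⟩
  · let P : Glue := pullback (c.inj i) (c.inj j)
    have hl : IsInitial P.left := Nonempty.some (CoproductDisjoint.nonempty_isInitial_of_ne hA hij _
      ((IsPullback.of_hasPullback (c.inj i) (c.inj j)).map (Comma.fst (𝟭 A) ρ)).isLimit)
    have hr : IsInitial P.right := Nonempty.some (CoproductDisjoint.nonempty_isInitial_of_ne hB hij _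
      ((IsPullback.of_hasPullback (c.inj i) (c.inj j)).map (Comma.snd (𝟭 A) ρ)).isLimit)
    exact IsInitial.ofUniqueHom (fun T => { left := hl.to _, right := hr.to _, w := hl.hom_ext _ _ })
      (fun T m => CommaMorphism.ext (hl.hom_ext _ _) (hr.hom_ext _ _))
  · intro F' c' α f h _ hp
    obtain ⟨k₁⟩ := axA.universal hA ((Comma.fst (𝟭 A) ρ).mapCocone c')
      (Discrete.natTrans fun i => (α.app i).left) f.left
      (by ext i; exact congrArg CommaMorphism.left (NatTrans.congr_app h i)) (.of_discrete _)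
      (fun i => (hp i).map (Comma.fst (𝟭 A) ρ))
    obtain ⟨k₂⟩ := axB.universal hB ((Comma.snd (𝟭 A) ρ).mapCocone c')
      (Discrete.natTrans fun i => (α.app i).right) f.right
      (by ext i; exact congrArg CommaMorphism.right (NatTrans.congr_app h i)) (.of_discrete _)
      (fun i => (hp i).map (Comma.snd (𝟭 A) ρ))
    exact ⟨Comma.fstSndJointlyReflectColimit k₁ k₂⟩

lemma glue_equiv (R X : Glue) (p₁ p₂ : R ⟶ X) (h : SGA4.IsEquivRel p₁ p₂) :
    SGA4.IsEffectiveUniversalEquivRel p₁ p₂ := by
  obtain ⟨BA, πA, pbA, poA, hA⟩ := axA.equiv _ _ _ _ (isEquivRel_map h (Comma.fst (𝟭 A) ρ))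
  obtain ⟨BB, πB, pbB, poB, hB⟩ := axB.equiv _ _ _ _ (isEquivRel_map h (Comma.snd (𝟭 A) ρ))
  have hw : p₁.left ≫ X.hom ≫ ρ.map πB = p₂.left ≫ X.hom ≫ ρ.map πB := by
    have e₁ : p₁.left ≫ X.hom = R.hom ≫ ρ.map p₁.right := p₁.w
    have e₂ : p₂.left ≫ X.hom = R.hom ≫ ρ.map p₂.right := p₂.w
    rw [reassoc_of% e₁, reassoc_of% e₂, ← Functor.map_comp, ← Functor.map_comp]
    exact congrArg (fun t => R.hom ≫ ρ.map t) pbB.w
  let Q : Glue := { left := BA, right := BB, hom := poA.desc (X.hom ≫ ρ.map πB) (X.hom ≫ ρ.map πB) hw }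
  let π : X ⟶ Q := { left := πA, right := πB, w := poA.inl_desc _ _ _ }
  refine ⟨Q, π, glue_isPullback pbA pbB, glue_isPushout poA poB, fun T g => ?_⟩
  let s := pullback.snd π g
  have sA := (IsPullback.of_hasPullback π g).map (Comma.fst (𝟭 A) ρ)
  have sB := (IsPullback.of_hasPullback π g).map (Comma.snd (𝟭 A) ρ)
  haveI := hA _ g.left
  haveI := hB _ g.right
  haveI eA : EffectiveEpi s.left := by
    rw [show s.left = sA.isoPullback.hom ≫ pullback.snd πA g.left from sA.isoPullback_hom_snd.symm]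
    infer_instance
  haveI eB : EffectiveEpi s.right := by
    rw [show s.right = sB.isoPullback.hom ≫ pullback.snd πB g.right from sB.isoPullback_hom_snd.symm]
    infer_instance
  have kA := (IsPullback.of_hasPullback s s).map (Comma.fst (𝟭 A) ρ)
  have kB := (IsPullback.of_hasPullback s s).map (Comma.snd (𝟭 A) ρ)
  have compA : ∀ {W : Glue} (e : pullback π g ⟶ W),
      (∀ {V : Glue} (a b : V ⟶ pullback π g), a ≫ s = b ≫ s → a ≫ e = b ≫ e) →
      ∀ {V : A} (a b : V ⟶ (pullback π g).left), a ≫ s.left = b ≫ s.left →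
        a ≫ e.left = b ≫ e.left := fun e he V a b hab => by
    have := congrArg CommaMorphism.left (he (pullback.fst s s) (pullback.snd s s) pullback.condition)
    rw [show a = kA.lift a b hab ≫ (pullback.fst s s).left from (kA.lift_fst _ _ _).symm]
    conv_rhs => rw [show b = kA.lift a b hab ≫ (pullback.snd s s).left from (kA.lift_snd _ _ _).symm]
    rw [Category.assoc, Category.assoc]
    exact congrArg (kA.lift a b hab ≫ ·) this
  have compB : ∀ {W : Glue} (e : pullback π g ⟶ W),
      (∀ {V : Glue} (a b : V ⟶ pullback π g), a ≫ s = b ≫ s → a ≫ e = b ≫ e) →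
      ∀ {V : B} (a b : V ⟶ (pullback π g).right), a ≫ s.right = b ≫ s.right →
        a ≫ e.right = b ≫ e.right := fun e he V a b hab => by
    have := congrArg CommaMorphism.right (he (pullback.fst s s) (pullback.snd s s) pullback.condition)
    rw [show a = kB.lift a b hab ≫ (pullback.fst s s).right from (kB.lift_fst _ _ _).symm]
    conv_rhs => rw [show b = kB.lift a b hab ≫ (pullback.snd s s).right from (kB.lift_snd _ _ _).symm]
    rw [Category.assoc, Category.assoc]
    exact congrArg (kB.lift a b hab ≫ ·) this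
  exact ⟨⟨
    { desc := fun {W} e he =>
        { left := EffectiveEpi.desc s.left e.left (compA e he)
          right := EffectiveEpi.desc s.right e.right (compB e he)
          w := by
            dsimp
            rw [← cancel_epi s.left, ← Category.assoc, EffectiveEpi.fac,
              show s.left ≫ T.hom ≫ _ = (pullback π g).hom ≫ ρ.map s.right ≫ _ from
                (reassoc_of% (s.w : s.left ≫ T.hom = (pullback π g).hom ≫ ρ.map s.right)) _,
              ← Functor.map_comp, EffectiveEpi.fac]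
            exact e.w }
      fac := fun e he => CommaMorphism.ext (EffectiveEpi.fac s.left e.left (compA e he))
        (EffectiveEpi.fac s.right e.right (compB e he))
      uniq := fun e he m hm => CommaMorphism.ext
        (EffectiveEpi.uniq s.left e.left (compA e he) _ (congrArg CommaMorphism.left hm))
        (EffectiveEpi.uniq s.right e.right (compB e he) _ (congrArg CommaMorphism.right hm)) }⟩⟩

theorem glue_axioms : Axioms Glue :=
  ⟨glue_coproducts axA axB, glue_equiv axA axB⟩

omit axA axB in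
/-- Generators for a glued category. -/
theorem glue_gen (axA : Axioms A) (genA : Gen A) (genB : Gen B) {iA : A} (hi : IsInitial iA)
    {S : Type u} (P : S → B)
    (hcov : ∀ X : B, ∃ T : Sieve (ρ.obj X), Extremal T ∧
      ∀ ⦃Y : A⦄ (f : Y ⟶ ρ.obj X), T f → ∃ (s : S) (p : P s ⟶ X) (a : Y ⟶ ρ.obj (P s)),
        a ≫ ρ.map p = f) :
    Nonempty (Gen Glue) := by
  refine ⟨{
    K := genB.K ⊕ (Σ (l : genA.K) (s : S), genA.obj l ⟶ ρ.obj (P s))
    obj := fun k => match k with
      | Sum.inl k => { left := iA, right := genB.obj k, hom := hi.to _ }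
      | Sum.inr ⟨l, s, a⟩ => { left := genA.obj l, right := P s, hom := a }
    det := fun {Z W} m _ hfac => ?_ }⟩
  haveI : Mono m.left := inferInstanceAs (Mono ((Comma.fst (𝟭 A) ρ).map m))
  haveI : Mono m.right := inferInstanceAs (Mono ((Comma.snd (𝟭 A) ρ).map m))
  haveI : IsIso m.right := genB.det _ inferInstance fun k g => by
    obtain ⟨h, hh⟩ := hfac (Sum.inl k) { left := hi.to _, right := g, w := hi.hom_ext _ _ }
    exact ⟨h.right, congrArg CommaMorphism.right hh⟩
  obtain ⟨T, hT, hTp⟩ := hcov W.right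
  have hS : Extremal (T.pullback W.hom) := genA.extremal_pullback axA hT W.hom
  haveI : IsIso m.left := genA.extremal_small hS _ inferInstance fun Y f hf => by
    obtain ⟨_, b, _, ⟨⟨l, g, hg⟩⟩, rfl⟩ := hf
    obtain ⟨s, p, a, hp⟩ := hTp (g ≫ W.hom) hg
    obtain ⟨h, hh⟩ := hfac (Sum.inr ⟨l, s, a⟩) { left := g, right := p, w := hp.symm }
    exact ⟨b ≫ h.left, by rw [Category.assoc]; exact congrArg (b ≫ ·) (congrArg CommaMorphism.left hh)⟩
  rw [show m = (Comma.isoMk (asIso m.left) (asIso m.right) m.w).hom from rfl]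
  infer_instance

end TopLib
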