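/-
Topologies from left exact reflective subcategories of presheaves.
-/
import Mathlib.CategoryTheory.Sites.Canonical
import Mathlib.CategoryTheory.Sites.LocallyBijective
import Mathlib.CategoryTheory.Sites.LeftExact
import Mathlib.CategoryTheory.Monad.Limits
import Mathlib.CategoryTheory.Limits.Shapes.Diagonal
import Mathlib.CategoryTheory.Limits.Types.Pullbacks
import Mathlib.CategoryTheory.Limits.FunctorCategory.Basic

set_option autoImplicit false
set_option linter.style.haveILetI false
set_option linter.deprecated false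
set_option linter.unusedSectionVars false

universe u

open CategoryTheory Limits Opposite

namespace TopLib

variable {C : Type u} [SmallCategory C] {P : ObjectProperty (Cᵒᵖ ⥤ Type u)}
  {L : (Cᵒᵖ ⥤ Type u) ⥤ P.FullSubcategory} (adj : L ⊣ P.ι) [PreservesFiniteLimits L]
  [P.IsClosedUnderIsomorphisms]

include adj

lemma isSheafFor_iff_bijective {X : C} (S : Sieve X) (F : Cᵒᵖ ⥤ Type u) :
    Presieve.IsSheafFor F (S : Presieve X) ↔
      Function.Bijective fun g : yoneda.obj X ⟶ F => S.functorInclusion ≫ g :=
  Presieve.isSheafFor_iff_yonedaSheafCondition.trans (Function.bijective_iff_existsUnique _).symm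

lemma sheafFor_of_isIso {X : C} (S : Sieve X) (h : IsIso (L.map S.functorInclusion))
    {F : Cᵒᵖ ⥤ Type u} (hF : P F) : Presieve.IsSheafFor F (S : Presieve X) := by
  rw [isSheafFor_iff_bijective adj]
  haveI := h
  let Y : P.FullSubcategory := ⟨F, hF⟩
  have : (fun g : yoneda.obj X ⟶ F => S.functorInclusion ≫ g) =
      (adj.homEquiv _ Y) ∘ ((asIso (L.map S.functorInclusion)).symm.homFromEquiv) ∘
        (adj.homEquiv _ Y).symm := by
    funext g
    obtain ⟨g, rfl⟩ := (adj.homEquiv _ Y).surjective g
    simp only [Function.comp_apply, Equiv.symm_apply_apply]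
    exact (adj.homEquiv_naturality_left _ _).symm
  rw [this]
  exact (adj.homEquiv _ _).bijective.comp
    ((Equiv.bijective _).comp (adj.homEquiv _ _).symm.bijective)

lemma isIso_of_sheafFor {X : C} (S : Sieve X)
    (h : ∀ F, P F → Presieve.IsSheafFor F (S : Presieve X)) : IsIso (L.map S.functorInclusion) := by
  refine isIso_of_coyoneda_map_bijective _ fun T => ?_
  have hb := (isSheafFor_iff_bijective adj S T.obj).1 (h _ T.property)
  have : (fun x : L.obj (yoneda.obj X) ⟶ T => L.map S.functorInclusion ≫ x) =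
      (adj.homEquiv _ T).symm ∘ (fun g : yoneda.obj X ⟶ T.obj => S.functorInclusion ≫ g) ∘
        (adj.homEquiv _ T) := by
    funext x
    exact ((adj.homEquiv_naturality_left_symm _ _).trans
      (congrArg (_ ≫ ·) (Equiv.symm_apply_apply _ _))).symm
  rw [this]
  exact (adj.homEquiv _ _).symm.bijective.comp (hb.comp (adj.homEquiv _ _).bijective)

lemma isIso_pullback {X Y : C} (S : Sieve X) (f : Y ⟶ X) [IsIso (L.map S.functorInclusion)] :
    IsIso (L.map (S.pullback f).functorInclusion) := by
  let l : (S.pullback f).functor ⟶ S.functor :=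
    { app := fun T => ↾fun g => ⟨g.1 ≫ f, g.2⟩
      naturality := fun T T' k => by ext g; exact Subtype.ext (Category.assoc _ _ _) }
  have hp : IsPullback l (S.pullback f).functorInclusion S.functorInclusion (yoneda.map f) := by
    refine ⟨⟨rfl⟩, ⟨evaluationJointlyReflectsLimits _ fun T => (isLimitMapConePullbackConeEquiv _ _).symm ?_⟩⟩
    exact (show IsPullback (l.app T) ((S.pullback f).functorInclusion.app T) (S.functorInclusion.app T)
      ((yoneda.map f).app T) from (Types.isPullback_iff _ _ _ _).2
        ⟨rfl, fun a b h => Subtype.ext h.2, fun a b h => ⟨⟨b, show S (b ≫ f) from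
          (show a.1 = b ≫ f from h) ▸ a.2⟩, Subtype.ext h.symm, rfl⟩⟩).isLimit
  exact (hp.map L).isIso_snd_of_isIso

/-- The topology of a left exact reflective subcategory. -/
def lexTopology (P : ObjectProperty (Cᵒᵖ ⥤ Type u)) : GrothendieckTopology C := Sheaf.finestTopology {F | P F}

lemma mem_lexTopology {X : C} (S : Sieve X) :
    S ∈ lexTopology P X ↔ IsIso (L.map S.functorInclusion) := by
  refine ⟨fun h => isIso_of_sheafFor adj S fun F hF =>
    (Sheaf.sheaf_for_finestTopology (Ps := {F | P F}) (P := F) hF) S h, fun h => ?_⟩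
  refine Sheaf.mem_finestTopology_of_forall_isSheafFor fun F hF Y f => ?_
  haveI := h
  exact sheafFor_of_isIso adj _ (isIso_pullback adj S f) hF

lemma imageSieve_mem {A B : Cᵒᵖ ⥤ Type u} (g : A ⟶ B) [IsIso (L.map g)] {X : C}
    (y : B.obj (op X)) : Presheaf.imageSieve g y ∈ lexTopology P X := by
  rw [mem_lexTopology adj]
  let S := Presheaf.imageSieve g y
  show IsIso (L.map S.functorInclusion)
  let π₂ := pullback.snd g (yonedaEquiv.symm y)
  have hs : ∀ T (p : (pullback g (yonedaEquiv.symm y)).obj T), S (π₂.app T p : T.unop ⟶ X) :=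
    fun T p => ⟨(pullback.fst g (yonedaEquiv.symm y)).app T p,
      (ConcreteCategory.congr_hom (NatTrans.congr_app
        (pullback.condition (f := g) (g := yonedaEquiv.symm y)) T) p).trans
        (yonedaEquiv_symm_app_apply y T _)⟩
  let h : pullback g (yonedaEquiv.symm y) ⟶ S.functor :=
    { app := fun T => ↾fun p => ⟨π₂.app T p, hs T p⟩
      naturality := fun T T' k => by
        ext p
        refine Subtype.ext ?_
        exact ConcreteCategory.congr_hom (π₂.naturality k) p }
  haveI : IsIso (L.map π₂) :=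
    ((IsPullback.of_hasPullback g (yonedaEquiv.symm y)).map L).isIso_snd_of_isIso
  haveI : Mono S.functorInclusion := by
    haveI : ∀ T, Mono (S.functorInclusion.app T) := fun T =>
      (mono_iff_injective _).2 fun a b e => Subtype.ext e
    exact NatTrans.mono_of_mono_app _
  haveI : Mono (L.map S.functorInclusion) := inferInstance
  have e : (inv (L.map π₂) ≫ L.map h) ≫ L.map S.functorInclusion = 𝟙 _ := by
    rw [Category.assoc, ← L.map_comp]
    exact IsIso.inv_hom_id (L.map π₂)
  exact ⟨inv (L.map π₂) ≫ L.map h,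
    (cancel_mono (L.map S.functorInclusion)).1 (by rw [Category.assoc, e]; simp), e⟩

lemma equalizerSieve_mem {A B : Cᵒᵖ ⥤ Type u} (g : A ⟶ B) [IsIso (L.map g)] {X : Cᵒᵖ}
    (a b : A.obj X) (e : g.app X a = g.app X b) :
    Presheaf.equalizerSieve (F := A) a b ∈ lexTopology P X.unop := by
  haveI : IsIso (L.map (pullback.diagonal g)) := by
    haveI := ((IsPullback.of_hasPullback g g).map L).isIso_fst_of_isIso
    exact IsIso.of_isIso_fac_right (g := L.map (pullback.diagonal g))
      (f := L.map (pullback.fst g g)) (h := 𝟙 _)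
      ((L.map_comp _ _).symm.trans ((congrArg L.map (pullback.diagonal_fst g)).trans (L.map_id _)))
  obtain ⟨z, hz₁, hz₂⟩ := Types.exists_of_isPullback
    ((IsPullback.of_hasPullback g g).map ((evaluation Cᵒᵖ (Type u)).obj X)) a b e
  refine (lexTopology P).superset_covering ?_ (imageSieve_mem adj (pullback.diagonal g) z)
  rintro Y f ⟨c, hc⟩
  have e₁ := congrArg ((pullback.fst g g).app (op Y)) hc
  have e₂ := congrArg ((pullback.snd g g).app (op Y)) hc
  have d₁ : (pullback.fst g g).app (op Y) ((pullback.diagonal g).app (op Y) c) = c :=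
    ConcreteCategory.congr_hom (NatTrans.congr_app (pullback.diagonal_fst g) _) c
  have d₂ : (pullback.snd g g).app (op Y) ((pullback.diagonal g).app (op Y) c) = c :=
    ConcreteCategory.congr_hom (NatTrans.congr_app (pullback.diagonal_snd g) _) c
  replace e₁ := d₁.symm.trans (e₁.trans (ConcreteCategory.congr_hom ((pullback.fst g g).naturality f.op) z))
  replace e₂ := d₂.symm.trans (e₂.trans (ConcreteCategory.congr_hom ((pullback.snd g g).naturality f.op) z))
  exact (congrArg (A.map f.op) hz₁).symm.trans ((e₁.symm.trans e₂).trans (congrArg (A.map f.op) hz₂))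

theorem mem_iff_isSheaf [P.ι.Full] [P.ι.Faithful] (F : Cᵒᵖ ⥤ Type u) :
    P F ↔ Presieve.IsSheaf (lexTopology P) F := by
  refine ⟨fun h => Sheaf.sheaf_for_finestTopology (Ps := {F | P F}) (P := F) h, fun h => ?_⟩
  let η : F ⟶ (L.obj F).obj := adj.unit.app F
  haveI : IsIso (L.map η) := inferInstanceAs (IsIso (L.map (adj.unit.app F)))
  let A : Sheaf (lexTopology P) (Type u) := ⟨F, (isSheaf_iff_isSheaf_of_type _ _).2 h⟩
  let B : Sheaf (lexTopology P) (Type u) := ⟨(L.obj F).obj,
    (isSheaf_iff_isSheaf_of_type _ _).2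
      (Sheaf.sheaf_for_finestTopology (Ps := {F | P F}) (P := (L.obj F).obj) (L.obj F).property)⟩
  let m : A ⟶ B := ⟨η⟩
  haveI : IsIso m := (Sheaf.isLocallyBijective_iff_isIso m).1
    ⟨⟨fun a b e => equalizerSieve_mem adj η a b e⟩, ⟨fun y => imageSieve_mem adj η y⟩⟩
  haveI : IsIso η := inferInstanceAs (IsIso ((sheafToPresheaf _ _).map m))
  exact (P.prop_iff_of_iso (asIso η)).2 (L.obj F).property

end TopLib
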