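/-
Coproducts and quotients in a small category and the canonical topology.
-/
import Groth.Agent.TopLib.SheafCoprod
import Mathlib.CategoryTheory.Sites.Canonical
import Mathlib.CategoryTheory.Sites.EqualizerSheafCondition

set_option autoImplicit false
set_option linter.style.haveILetI false
set_option linter.deprecated false
set_option linter.unusedSectionVars false

universe u

open CategoryTheory Limits Opposite

namespace TopLib

variable {C : Type u} [SmallCategory C]

lemma yoneda_isSheaf_canonical (Z : C) :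
    Presieve.IsSheaf (Sheaf.canonicalTopology C) (yoneda.obj Z) :=
  GrothendieckTopology.Subcanonical.isSheaf_of_isRepresentable _

lemma unique_hom_of_bot {W : C} (h : (⊥ : Sieve W) ∈ Sheaf.canonicalTopology C W) (Z : C) :
    ∃! _t : W ⟶ Z, True := by
  obtain ⟨t, -, hu⟩ := yoneda_isSheaf_canonical Z _ h
    (fun V g (hg : False) => hg.elim) (fun _ _ _ _ _ _ _ h₁ _ _ => h₁.elim)
  exact ⟨t, trivial, fun a _ => hu a fun V g hg => hg.elim⟩

lemma canonical_hom_ext {W Z : C} {S : Sieve W} (hS : S ∈ Sheaf.canonicalTopology C W) {a b : W ⟶ Z}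
    (h : ∀ ⦃V : C⦄ (v : V ⟶ W), S v → v ≫ a = v ≫ b) : a = b :=
  (yoneda_isSheaf_canonical Z S hS).isSeparatedFor.ext fun V v hv => h v hv

variable {X : C} {ι : Type u} {Y : ι → C} {s : ∀ i, Y i ⟶ X}

/-- A covering disjoint family of monomorphisms is a coproduct in the category. -/
lemma isColimit_of_canonical (hcov : Sieve.ofArrows Y s ∈ Sheaf.canonicalTopology C X)
    (hmono : ∀ i, Mono (s i))
    (hdisj : ∀ i j, i ≠ j → ∀ (W : C) (g : W ⟶ Y i) (h : W ⟶ Y j), g ≫ s i = h ≫ s j →
      (⊥ : Sieve W) ∈ Sheaf.canonicalTopology C W) :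
    Nonempty (IsColimit (Cofan.mk X s)) := by
  have key : ∀ (Z : C) (x : ∀ i, Y i ⟶ Z), ∃! t : X ⟶ Z, ∀ i, s i ≫ t = x i := by
    intro Z x
    have h := yoneda_isSheaf_canonical Z _ hcov
    rw [Sieve.ofArrows, ← Presieve.isSheafFor_iff_generate, Presieve.isSheafFor_arrows_iff] at h
    exact h x fun i j W g k e => by
      rcases eq_or_ne i j with rfl | hij
      · haveI := hmono i
        rw [(cancel_mono (s i)).1 e]
      · exact (unique_hom_of_bot (hdisj i j hij W g k e) Z).unique trivial trivial
  exact ⟨mkCofanColimit _ (fun c => (key c.pt c.inj).choose)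
    (fun c i => (key c.pt c.inj).choose_spec.1 i)
    (fun c m hm => (key c.pt c.inj).choose_spec.2 m hm)⟩

variable (Y s) [∀ (i : ι) (Z : C) (g : Z ⟶ X), HasPullback (s i) g]

/-- Canonically covering disjoint families are exactly the disjoint universal coproducts. -/
theorem canonical_coprod_iff :
    (Sieve.ofArrows Y s ∈ Sheaf.canonicalTopology C X ∧ (∀ i, Mono (s i)) ∧
      ∀ i j, i ≠ j → ∀ (W : C) (g : W ⟶ Y i) (h : W ⟶ Y j), g ≫ s i = h ≫ s j →
        (⊥ : Sieve W) ∈ Sheaf.canonicalTopology C W) ↔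
    (Nonempty (IsColimit (Cofan.mk X s)) ∧ CoproductDisjoint Y ∧
        IsUniversalColimit (Cofan.mk X s)) := by
  constructor
  · rintro ⟨hcov, hmono, hdisj⟩
    obtain ⟨hc⟩ := isColimit_of_canonical hcov hmono hdisj
    haveI : ∀ i, Mono ((Cofan.mk X s).inj i) := hmono
    refine ⟨⟨hc⟩, CoproductDisjoint.of_cofan hc (fun {i j} _ => pullback.cone (s i) (s j))
      (fun _ => pullback.isLimit _ _) (fun {i j} hij => ?_), ?_⟩
    · have hb := hdisj i j hij _ (pullback.fst (s i) (s j)) (pullback.snd (s i) (s j)) pullback.condition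
      exact IsInitial.ofUniqueHom (fun Z => (unique_hom_of_bot hb Z).exists.choose)
        (fun Z m => (unique_hom_of_bot hb Z).unique trivial trivial)
    · intro F' c' α f e _ hp
      let Y' : ι → C := fun i => F'.obj ⟨i⟩
      let s' : ∀ i, Y' i ⟶ c'.pt := fun i => c'.ι.app ⟨i⟩
      have hcov' : Sieve.ofArrows Y' s' ∈ Sheaf.canonicalTopology C c'.pt := by
        refine (Sheaf.canonicalTopology C).superset_covering ?_
          ((Sheaf.canonicalTopology C).pullback_stable f hcov)
        rintro V g ⟨_, a, _, ⟨i⟩, ha⟩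
        exact ⟨_, (hp ⟨i⟩).lift g a ha.symm, s' i, ⟨i⟩, (hp ⟨i⟩).lift_fst _ _ _⟩
      have hw : ∀ i, s' i ≫ f = α.app ⟨i⟩ ≫ s i := fun i => (hp ⟨i⟩).w
      obtain ⟨hc'⟩ := isColimit_of_canonical hcov'
        (fun i => by
          refine ⟨fun a b hab => (hp ⟨i⟩).hom_ext hab ?_⟩
          haveI := hmono i
          rw [← cancel_mono (s i)]
          show (a ≫ α.app ⟨i⟩) ≫ s i = (b ≫ α.app ⟨i⟩) ≫ s i
          rw [Category.assoc, Category.assoc, ← hw, ← Category.assoc, hab, Category.assoc])
        (fun i j hij W g h hgh => hdisj i j hij W (g ≫ α.app ⟨i⟩) (h ≫ α.app ⟨j⟩) (by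
          rw [Category.assoc, Category.assoc, ← hw, ← hw, ← Category.assoc, hgh, Category.assoc]))
      exact ⟨(IsColimit.precomposeHomEquiv Discrete.natIsoFunctor.symm c' (hc'.ofIsoColimit
        (Cocone.ext (Iso.refl _) fun ⟨i⟩ => by simp [Y', s'])))⟩
  · rintro ⟨⟨hc⟩, hdis, hu⟩
    have hmono : ∀ i, Mono (s i) := fun i => CoproductDisjoint.mono_inj hc i
    have hlegs : ∀ {T : C} (f : T ⟶ X), Nonempty (IsColimit (Cofan.mk T fun i => pullback.snd (s i) f)) :=
      fun {T} f => hu _ (Discrete.natTrans fun i => pullback.fst (s i.as) f) f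
        (by ext ⟨i⟩; exact pullback.condition) (.of_discrete _)
        fun i => (IsPullback.of_hasPullback (s i.as) f).flip
    refine ⟨?_, hmono, fun i j hij W g h e => ?_⟩
    · refine Sheaf.mem_finestTopology_of_forall_isSheafFor ?_
      rintro P ⟨Z, rfl⟩ T f
      obtain ⟨hT⟩ := hlegs f
      have hmem : ∀ k, (Sieve.ofArrows Y s).pullback f (pullback.snd (s k) f) := fun k =>
        ⟨_, pullback.fst (s k) f, s k, ⟨k⟩, pullback.condition⟩
      intro x hx
      refine ⟨Cofan.IsColimit.desc hT fun k => x _ (hmem k), fun V v hv => ?_, fun t ht => ?_⟩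
      · obtain ⟨_, a, _, ⟨k⟩, ha⟩ := hv
        let l : V ⟶ pullback (s k) f := pullback.lift a v ha
        have hl : l ≫ pullback.snd (s k) f = v := pullback.lift_snd _ _ _
        have hm : (Sieve.ofArrows _ s).pullback f v := by
          show Sieve.ofArrows _ s (v ≫ f)
          rw [← ha]
          exact (Sieve.ofArrows _ s).downward_closed (Sieve.ofArrows_mk _ s k) a
        have h₁ := hx l (𝟙 V) (hmem k) hm (by rw [hl, Category.id_comp])
        have h₁' : l ≫ x _ (hmem k) = x v hm := h₁.trans (Category.id_comp _)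
        show v ≫ _ = x v _
        rw [← h₁']
        conv_lhs => rw [← hl]
        rw [Category.assoc]
        exact congrArg (l ≫ ·) (Cofan.IsColimit.fac hT _ k)
      · exact Cofan.IsColimit.hom_ext hT _ _ fun k => (ht _ (hmem k)).trans (Cofan.IsColimit.fac hT (fun k => x _ (hmem k)) k).symm
    · obtain ⟨hP⟩ := CoproductDisjoint.nonempty_isInitial_of_ne hc hij _ (pullback.isLimit (s i) (s j))
      have hb : (⊥ : Sieve (pullback (s i) (s j))) ∈ Sheaf.canonicalTopology C (pullback (s i) (s j)) := by
        refine Sheaf.mem_finestTopology_of_forall_isSheafFor ?_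
        rintro P ⟨Z, rfl⟩ V v x -
        obtain ⟨hV⟩ := hlegs (v ≫ pullback.fst (s i) (s j) ≫ s i)
        let li : V ⟶ pullback (s i) (v ≫ pullback.fst (s i) (s j) ≫ s i) :=
          pullback.lift (v ≫ pullback.fst (s i) (s j)) (𝟙 V) (by simp)
        let lj : V ⟶ pullback (s j) (v ≫ pullback.fst (s i) (s j) ≫ s i) :=
          pullback.lift (v ≫ pullback.snd (s i) (s j)) (𝟙 V) (by simp [pullback.condition])
        refine ⟨v ≫ hP.to Z, fun W w hw => hw.elim, fun a _ => ?_⟩
        classical
        let b : V ⟶ Z := v ≫ hP.to Z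
        let t := Cofan.IsColimit.desc hV fun k =>
          pullback.snd (s k) (v ≫ pullback.fst (s i) (s j) ≫ s i) ≫ (if k = i then a else b)
        have e₁ : li ≫ pullback.snd _ _ = 𝟙 V := pullback.lift_snd _ _ _
        have e₂ : lj ≫ pullback.snd _ _ = 𝟙 V := pullback.lift_snd _ _ _
        have ha : t = a := by
          have := congrArg (li ≫ ·) (Cofan.IsColimit.fac hV (fun k =>
            pullback.snd (s k) (v ≫ pullback.fst (s i) (s j) ≫ s i) ≫ (if k = i then a else b)) i)
          simp only [Cofan.inj, Cofan.mk_ι_app] at this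
          rw [reassoc_of% e₁, reassoc_of% e₁] at this
          simpa using this
        have hb : t = b := by
          have := congrArg (lj ≫ ·) (Cofan.IsColimit.fac hV (fun k =>
            pullback.snd (s k) (v ≫ pullback.fst (s i) (s j) ≫ s i) ≫ (if k = i then a else b)) j)
          simp only [Cofan.inj, Cofan.mk_ι_app] at this
          rw [reassoc_of% e₂, reassoc_of% e₂, if_neg hij.symm] at this
          exact this
        exact ha.symm.trans hb
      exact (Sheaf.canonicalTopology C).superset_covering (fun V v (hv : False) => hv.elim)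
        ((Sheaf.canonicalTopology C).pullback_stable (pullback.lift g h e) hb)

end TopLib
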