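/-
Giraud's axioms checked by a jointly conservative family of functors.
-/
import Groth.Agent.TopLib.GiraudTop
import Groth.Agent.TopLib.CommaGiraud

set_option autoImplicit false
set_option linter.style.haveILetI false
set_option linter.unusedSectionVars false

universe v w v' u

open CategoryTheory Limits Opposite

namespace TopLib

variable {K : Type v} [Category.{u} K] [HasFiniteLimits K] [HasColimitsOfSize.{u, u} K]
  {ι : Type w} {E : Type v'} [Category.{u} E] [HasFiniteLimits E] (G : ι → K ⥤ E)
  [∀ a, PreservesFiniteLimits (G a)] [∀ a, PreservesColimitsOfSize.{u, u} (G a)]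
  (hG : ∀ {X Y : K} (m : X ⟶ Y), (∀ a, IsIso ((G a).map m)) → IsIso m)

include hG

lemma nonempty_isColimit_of_joint {D : Type*} [Category D] {F : D ⥤ K} [HasColimit F]
    [∀ a, PreservesColimit F (G a)] (c : Cocone F)
    (h : ∀ a, Nonempty (IsColimit ((G a).mapCocone c))) : Nonempty (IsColimit c) := by
  let d := (colimit.isColimit F).desc c
  have : IsIso d := hG _ fun a => by
    obtain ⟨hc⟩ := h a
    have hd := isColimitOfPreserves (G a) (colimit.isColimit F)
    rw [show (G a).map d = (hd.coconePointUniqueUpToIso hc).hom from hd.hom_ext fun j => by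
      refine ((G a).map_comp _ _).symm.trans (Eq.trans ?_ (hd.comp_coconePointUniqueUpToIso_hom hc j).symm)
      exact congrArg (G a).map ((colimit.isColimit F).fac c j)]
    infer_instance
  exact ⟨IsColimit.ofPointIso (colimit.isColimit F)⟩

theorem joint_axioms (ax : Axioms E) : Axioms K where
  coprod := fun κ X => by
    let c : Cofan X := colimit.cocone (Discrete.functor X)
    have hc : IsColimit c := colimit.isColimit _
    have hcG : ∀ a, IsColimit (Cofan.mk ((G a).obj c.pt) fun i => (G a).map (c.inj i)) := fun a =>
      isColimitCofanMkObjOfIsColimit (G a) X c.inj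
        (hc.ofIsoColimit (Cocone.ext (Iso.refl _) fun i => by simp [Cofan.inj]))
    haveI : ∀ i, Mono (c.inj i) := fun i => by
      haveI := hG (pullback.diagonal (c.inj i)) fun a => by
        haveI := ax.disjoint fun i => (G a).obj (X i)
        haveI : Mono ((G a).map (c.inj i)) := CoproductDisjoint.mono_inj (hcG a) i
        have hp := (IsPullback.of_hasPullback (c.inj i) (c.inj i)).map (G a)
        haveI := hp.isIso_fst_of_mono
        exact IsIso.of_isIso_fac_right (f := (G a).map (pullback.fst (c.inj i) (c.inj i)))
          (g := (G a).map (pullback.diagonal (c.inj i))) (h := 𝟙 _)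
          (((G a).map_comp _ _).symm.trans ((congrArg (G a).map (pullback.diagonal_fst _)).trans
            ((G a).map_id _)))
      exact (pullback.isIso_diagonal_iff (c.inj i)).1 inferInstance
    refine ⟨c, hc, CoproductDisjoint.of_cofan hc
      (fun {i j} _ => pullback.cone (c.inj i) (c.inj j)) (fun _ => pullback.isLimit _ _)
      (fun {i j} hij => Nonempty.some ?_), ?_⟩
    · let P := pullback (c.inj i) (c.inj j)
      haveI : IsIso (initial.to P) := hG _ fun a => by
        haveI := ax.disjoint fun i => (G a).obj (X i)
        obtain ⟨hP⟩ := CoproductDisjoint.nonempty_isInitial_of_ne (hcG a) hij _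
          ((IsPullback.of_hasPullback (c.inj i) (c.inj j)).map (G a)).isLimit
        have h0 : IsInitial ((G a).obj (⊥_ K)) := IsInitial.isInitialObj (G a) _ initialIsInitial
        exact ⟨hP.to _, h0.hom_ext _ _, hP.hom_ext _ _⟩
      exact ⟨initialIsInitial.ofIso (asIso (initial.to P))⟩
    · intro F' c' α f h _ hp
      refine nonempty_isColimit_of_joint G hG c' fun a => ?_
      refine ax.universal (hcG a) ((G a).mapCocone c') (Discrete.natTrans fun i => (G a).map (α.app i))
        ((G a).map f) ?_ (.of_discrete _) fun i => (hp i).map (G a)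
      refine NatTrans.ext (funext fun i => ?_)
      refine Eq.trans ((G a).map_comp _ _).symm ?_
      exact Eq.trans (congrArg (G a).map (NatTrans.congr_app h i)) ((G a).map_comp _ _)
  equiv := fun R A p₁ p₂ h => by
    have hr : (pushout.inl p₁ p₂ : A ⟶ pushout p₁ p₂) = pushout.inr p₁ p₂ := by
      obtain ⟨r, h₁, h₂⟩ := (h A).2.refl (𝟙 A)
      have := congrArg (r ≫ ·) (pushout.condition (f := p₁) (g := p₂))
      simpa [reassoc_of% h₁, reassoc_of% h₂] using this
    let π : A ⟶ pushout p₁ p₂ := pushout.inl p₁ p₂
    have hpo : IsPushout p₁ p₂ π π := by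
      have := IsPushout.of_hasPushout p₁ p₂
      rw [← hr] at this
      exact this
    have hcomp : ∀ a, IsPullback ((G a).map p₁) ((G a).map p₂) ((G a).map π) ((G a).map π) ∧
        ∀ {B' : E} (g : B' ⟶ (G a).obj (pushout p₁ p₂)), EffectiveEpi (pullback.snd ((G a).map π) g) := by
      intro a
      obtain ⟨B, q, hpb, hpo', hq⟩ := ax.equiv _ _ _ _ (isEquivRel_map h (G a))
      let e : (G a).obj (pushout p₁ p₂) ≅ B :=
        (hpo.map (G a)).isColimit.coconePointUniqueUpToIso hpo'.isColimit
      have he : (G a).map π ≫ e.hom = q :=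
        (hpo.map (G a)).isColimit.comp_coconePointUniqueUpToIso_hom hpo'.isColimit WalkingSpan.left
      refine ⟨hpb.of_iso (Iso.refl _) (Iso.refl _) (Iso.refl _) e.symm (by simp) (by simp)
        (by simp [← he]) (by simp [← he]), fun {B'} g => ?_⟩
      have h' : IsPullback (pullback.fst ((G a).map π) g) (pullback.snd _ g) q (g ≫ e.hom) :=
        (IsPullback.of_hasPullback ((G a).map π) g).of_iso (Iso.refl _) (Iso.refl _) (Iso.refl _) e
          (by simp) (by simp) (by simp [he]) (by simp)
      haveI := hq B' (g ≫ e.hom)
      rw [← h'.isoPullback_hom_snd]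
      infer_instance
    haveI : IsIso (pullback.lift p₁ p₂ hpo.w) := hG _ fun a => by
      have h₂ := (IsPullback.of_hasPullback π π).map (G a)
      rw [show (G a).map (pullback.lift p₁ p₂ hpo.w) =
        ((hcomp a).1.isoPullback ≪≫ h₂.isoPullback.symm).hom from h₂.hom_ext
          (by rw [← Functor.map_comp, pullback.lift_fst]; simp)
          (by rw [← Functor.map_comp, pullback.lift_snd]; simp)]
      infer_instance
    refine ⟨_, π, IsPullback.of_iso_pullback ⟨hpo.w⟩ (asIso (pullback.lift p₁ p₂ hpo.w))
      (pullback.lift_fst _ _ _) (pullback.lift_snd _ _ _), hpo, fun B' g => ?_⟩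
    let s := pullback.snd π g
    have heff : ∀ a, EffectiveEpi ((G a).map s) := fun a => by
      have h₁ := (IsPullback.of_hasPullback π g).map (G a)
      haveI := (hcomp a).2 ((G a).map g)
      rw [show (G a).map s = h₁.isoPullback.hom ≫ pullback.snd _ _ from h₁.isoPullback_hom_snd.symm]
      infer_instance
    haveI : HasColimitsOfSize.{0, 0} K := hasColimitsOfSizeShrink.{0, 0} K
    haveI := fun a => preservesColimitsOfSize_shrink.{0, u, 0, u} (G a)
    obtain ⟨hs⟩ := nonempty_isColimit_of_joint G hG (Cofork.ofπ s (pullback.condition (f := s) (g := s)))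
      fun a => ⟨(isColimitMapCoconeCoforkEquiv (G a) _).symm (haveI := heff a
        isColimitCoforkOfEffectiveEpi ((G a).map s) _
          ((IsPullback.of_hasPullback s s).map (G a)).isLimit)⟩
    exact ⟨⟨{
      desc := fun e he => Cofork.IsColimit.desc hs e (he _ _ (pullback.condition (f := s) (g := s)))
      fac := fun e he => Cofork.IsColimit.π_desc' hs e _
      uniq := fun e he m hm => Cofork.IsColimit.hom_ext hs
        (hm.trans (Cofork.IsColimit.π_desc' hs e (he _ _ (pullback.condition (f := s) (g := s)))).symm) }⟩⟩

end TopLib
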